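import Cfsg.Agent.MS.Nilp

/-! If `N(Z(J(S)))` does not involve `S₃` for a Sylow `3`-subgroup `S`, then neither does `G`. -/

set_option autoImplicit false
set_option linter.unusedSectionVars false

namespace CF.MS
open Subgroup Cfsg CF.BG CF.Loc
open CF.Ab2 (NS ns_top p2 S4 AbS)
open CF.PLocal (CharFunctor)

universe u
section
variable {G H : Type*} [Group G] [Group H] [Finite G] {p : ℕ} {L M K N P S T : Subgroup G} {x y g : G}

theorem inv_map (h : Inv p L) (hp : p.Prime) (f : G →* H) (hf : ∀ y ∈ L, orderOf y = p → f y ≠ 1) :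
    Inv p (L.map f) := by
  obtain ⟨x, hx, y, hy, ⟨k, a⟩, b, c⟩ := h
  have := Fact.mk hp
  exact ⟨_, mem_map_of_mem f hx, _, mem_map_of_mem f hy, ⟨k, by rw [← map_pow, a, map_one]⟩,
    orderOf_eq_prime (by rw [← map_pow, ← b, pow_orderOf_eq_one, map_one]) (hf y hy b),
    by rw [← map_inv, ← map_mul, ← map_mul, c, map_inv]⟩

theorem inv_map_inj (h : Inv p L) (hp : p.Prime) {f : G →* H} (hf : Function.Injective f) :
    Inv p (L.map f) := inv_map h hp f fun y _ o e => hp.ne_one (by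
  rw [← o, (injective_iff_map_eq_one f).1 hf y e, orderOf_one])

theorem inv_of_real' (hp : p.Prime) (hx : x ∈ L) (hg : g ∈ L) (k : PiElt {p} x) (x1 : x ≠ 1)
    (e : g * x * g⁻¹ = x⁻¹) : Inv p L := by
  have := Fact.mk hp
  obtain ⟨y, hy, o⟩ := exists_orderOf_eq_of_isPGroup k.zpowers.isPGroup (by rwa [Ne, zpowers_eq_bot])
  exact inv_top_iff.1 (inv_of_real (x := ⟨y, zpowers_le.2 hx hy⟩)
    ⟨⟨g, hg⟩, Subtype.ext (inverts_of_mem_zpowers e hy)⟩ ((orderOf_coe _).symm.trans o))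

theorem cent_of_not_inv (hp : p.Prime) (h : ¬ Inv p L) (k : PiGrp {p} P) (l : P ≤ L) (t : PiGrp {2} T)
    (m : T ≤ L) (n : T ≤ 𝐍 P) : T ≤ 𝐂 P := fun x hx => by
  have := Fact.mk hp
  obtain ⟨j, e⟩ := (t.elt hx).exists_pow (orderOf_pos x).ne'
  by_contra c
  exact h (inv_of_normalizes k.isPGroup l (e ▸ pow_orderOf_eq_one x) (m hx) (n hx) c)

theorem abs_or {G : Type u} [Group G] [Finite G] {L : Subgroup G} (n : NS L) (h : ¬ Inv 3 L) :
    AbS L ∨ ¬ 3 ∣ ♯L := by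
  have h' := mt inv_top_iff.1 h
  have a : AbS (⊤ : Subgroup L) → AbS L := fun a => map_top_subtype L ▸ a.map L.subtype
  haveI := n.simple
  rcases Fgs1.gd_of_s3free n.top h' with k | ⟨V, v, c⟩ | k
  · exact .inr fun d => h' (suz_inv (Sig.suz_of_bender (k.bender n.top) h') Nat.prime_three (by decide) d)
  · exact .inl (a ⟨V, v, (Ab2.S4.ab ⟨V, v, c⟩ n.top v).abel⟩)
  · obtain ⟨V, v, c, -⟩ := k.syl
    exact .inl (a ⟨V, v, c.abel⟩)

end

variable {G : Type u} [Group G] [Finite G] {Q : Subgroup G}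

theorem abs_of_odd [Q.Normal] (q : Sol Q) (h : ¬ Inv 3 (⊤ : Subgroup (G ⧸ Q)))
    (o : ∀ S M : Subgroup G, Syl 3 S ⊤ → S ≤ M → M ≠ ⊤ → PiGrp {2}ᶜ M) : AbS (⊤ : Subgroup G) := by
  by_cases e : PiGrp {2}ᶜ (⊤ : Subgroup G)
  · exact ⟨⊥, Hall.bot e, abel_bot⟩
  obtain ⟨N, -, ⟨nN, eN⟩, mN⟩ := exists_minimal (P := fun N : Subgroup G => N ⊴ ⊤ ∧ ¬ PiGrp {2}ᶜ N)
    ⟨NormalIn.refl _, e⟩
  obtain ⟨K, -, ⟨nK, eK⟩, mK⟩ := exists_maximal (P := fun K : Subgroup G => K ⊴ N ∧ K ≠ N) (H := ⊥)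
    ⟨NormalIn.bot _, fun c => eN (c ▸ piGrp_bot _)⟩
  obtain ⟨S, s⟩ := exists_syl 3 (⊤ : Subgroup G)
  obtain ⟨T, t⟩ := exists_syl 2 N
  have nC : K.normalCore ⊴ ⊤ := normalIn_top.2 inferInstance
  have lC := K.normalCore_le.trans nK.le
  have oC : PiGrp {2}ᶜ K.normalCore := by_contra fun c =>
    eK (le_antisymm nK.le ((mN _ ⟨nC, c⟩ lC).ge.trans K.normalCore_le))
  have mC : ∀ X : Subgroup G, (∀ g, cj g X ≤ K) → X ≤ K.normalCore := fun X a x hx g =>
    a g (conj_mem_cj g hx)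
  have cN : ∀ (g : G) {X : Subgroup G}, X ≤ N → cj g X ≤ N := fun g X a =>
    (BG.cj_mono g a).trans (cj_of_norm (nN.norm (mem_top g))).le
  have t1 : ∀ M, T ≤ M → ¬ PiGrp {2}ᶜ M := fun M a b =>
    eN (Hall.pi'_of_eq_bot (t.pi.eq_bot (b.le a) ▸ t))
  have e1 : N ⊔ S = ⊤ := by_contra fun c => t1 _ (t.le.trans le_sup_left) (o S _ s le_sup_right c)
  have t' : Syl 2 T ⊤ := t.trans_idx le_top (by
    rw [← e1, relIndex_sup_norm' (.inl (le_top.trans nN.norm))]; exact (s.pi.of_single_ne (by decide)).relIndex _)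
  have eo : ∀ Y, Y ⊴ qt K N → Y = ⊥ ∨ Y = qt K N := fun Y a => by
    refine (em (qp K Y = N)).symm.imp (fun c => ?_) fun c => by rw [← c, qt_qp]
    rw [← qt_qp Y, mK _ ⟨a.qp_of_qt nK, c⟩ (le_qp Y), qt_of_le le_rfl]
  have ab : AbS (qt K N) := by
    rcases eo _ (der_normal (qt K N)) with c | c
    · exact (exists_syl 2 _).imp fun V v => ⟨v, (der_eq_bot.1 c).mono v.le⟩
    have n : NS (qt K N) := ⟨fun c => eK (le_antisymm nK.le ((qt_eq_bot nK.norm).1 c)), c, eo⟩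
    have l : Q ⊓ N ≤ K := (qt_eq_bot (inf_le_right.trans nK.norm)).1 (n.eq_bot_of_sol
      ((normalIn_inf_right le_normalizer_of_normal).qt K) ((q.mono inf_le_left).qt K))
    refine (abs_or n fun i => Fgs1.not_inv_of_involves h (PLocal.involves_of_ker_le
      ((QuotientGroup.mk' Q).comp N.subtype) _ (qtHom_surj nK.norm) fun x hx => ?_)
      (inv_top_iff.2 i)).resolve_right fun d => n.not_sol ?_
    · rw [qtHom_ker]; exact l ⟨(QuotientGroup.eq_one_iff _).1 hx, x.2⟩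
    · rw [card_qt nK.norm, ← piNat_compl_single Nat.prime_three] at d
      have s1 := s.inf_normal nN
      have a : S ⊓ N ≤ K.normalCore := mC _ fun g =>
        (s1.pi.cj g).le_of_relIndex (cN g inf_le_right) nK.norm d
      have f := t.syl_frattini_sup nN
      have y : 𝐍 T ≤ 𝐍 (K.normalCore ⊔ T) := norm_sup (le_top.trans nC.norm) le_rfl
      obtain ⟨R, r⟩ := exists_syl 3 (𝐍 (K.normalCore ⊔ T))
      have z : 𝐍 (K.normalCore ⊔ T) = ⊤ := by_contra fun c => t1 _ (le_sup_right.trans le_normalizer)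
        (o R _ (r.trans_idx le_top (by
          rw [← top_le_iff.1 (f.ge.trans (sup_le_sup_left (inf_le_right.trans y) _)),
            relIndex_sup_norm (.inr (le_top.trans nN.norm))]
          exact s1.idx_of_le (a.trans (le_sup_left.trans le_normalizer)))) r.le c)
      rw [← mN _ ⟨⟨le_top, z.ge⟩, t1 _ le_sup_right⟩ (sup_le lC t.le),
        qt_sup_of_le (t.le.trans nK.norm) K.normalCore_le]
      exact (t.pi.qt K).sol
  refine ⟨T, t', der_eq_bot.1 ((t.pi.le (der_le T)).eq_bot (oC.le (mC _ fun g => ?_)))⟩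
  rw [cj_comm]
  exact (abel_qt_iff ((cN g t.le).trans nK.norm)).1 (ab.abel (qt_mono K (cN g t.le)) ((t.pi.cj g).qt K))

theorem not_inv_of_qd {p : ℕ} [hp : Fact p.Prime] (h2 : p ≠ 2) {W : CharFunctor.{u} p} (hW : W.ZJType)
    (q : ¬ Involves (qd p) G) {S : Subgroup G} (s : Syl p S ⊤) (h : ¬ Inv p (𝐍 (W.W S))) :
    ¬ Inv p (⊤ : Subgroup G) := fun ⟨x, _, y, _, _, o, e⟩ => by
  have k := piGrp_of_card_prime hp.out (o ▸ Nat.card_zpowers y)
  obtain ⟨g, -, l⟩ := s.syl_cj_le le_top k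
  rw [BG.cj_zpowers] at l
  have e' : g * x * g⁻¹ * (g * y * g⁻¹) * (g * x * g⁻¹)⁻¹ = (g * y * g⁻¹)⁻¹ := by
    rw [conj_inv (a := y), ← e]; group
  obtain ⟨n, hn, c, hc, f⟩ := W.ctrl_of_qdFree h2 hW q (s.isSylowIn hp.out) ⟨le_rfl, fun _ _ _ k => k⟩
    _ l (g * x * g⁻¹) (mem_top _) (show cj _ _ ≤ _ by rwa [BG.cj_zpowers, e', zpowers_inv])
  refine h (inv_of_real' hp.out (W.normalizer_le S (le_normalizer (zpowers_le.1 l))) hn
    ((piGrp_zpowers.1 k).conj g) (fun c => hp.out.ne_one ?_) ?_)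
  · rw [← o, ← orderOf_conj' g, c, orderOf_one]
  · rw [← e', f, mul_assoc n c, ← hc _ (mem_zpowers _)]; group

theorem not_inv_of_abs {p : ℕ} [hp : Fact p.Prime] (h2 : p ≠ 2) {W : CharFunctor.{u} p} (hW : W.ZJType)
    (a : AbS (⊤ : Subgroup G)) {S : Subgroup G} (s : Syl p S ⊤) (h : ¬ Inv p (𝐍 (W.W S))) :
    ¬ Inv p (⊤ : Subgroup G) := by
  refine not_inv_of_qd h2 hW (CF.PLocal.not_involves_qd_of_not_involves_SL2 fun k => ?_) s h
  obtain ⟨K, f, hf⟩ := CF.Transfer.involves_iff.1 k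
  have := (a.mono (le_top (a := K))).top.map f
  rw [← MonoidHom.range_eq_map, MonoidHom.range_eq_top.2 hf] at this
  exact Ab2.not_abs_SL h2 this

theorem inv3 [hp : Fact (Nat.Prime 3)] {W : CharFunctor.{u} 3} (hW : W.ZJType) (G : Type u) [Group G]
    [Finite G] {S : Subgroup G} (s : Syl 3 S ⊤) (h : ¬ Inv 3 (𝐍 (W.W S))) : ¬ Inv 3 (⊤ : Subgroup G) := by
  induction hn : Nat.card G using Nat.strong_induction_on generalizing G with | _ n ih =>
  subst hn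
  intro ⟨x, _, y, _, ⟨j, x2⟩, o, e⟩
  have iG : Inv 3 (⊤ : Subgroup G) := ⟨x, trivial, y, trivial, ⟨j, x2⟩, o, e⟩
  have h' : ∀ T : Subgroup G, Syl 3 T ⊤ → ¬ Inv 3 (𝐍 (W.W T)) := fun T t i => by
    obtain ⟨g, -, rfl⟩ := t.syl_conj s
    rw [show W.W (cj g T) = cj g (W.W T) from W.cj g T, ← cj_norm] at h
    exact h (inv_map_inj i hp.out (MulAut.conj g).injective)
  have sub : ∀ M T : Subgroup G, M ≠ ⊤ → Syl 3 T M → ¬ Inv 3 (𝐍 (W.W T)) → ¬ Inv 3 M := fun M T m t k i => by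
    obtain ⟨T, rfl⟩ := exists_map_subtype t.le
    refine ih _ (card_sub_lt m) M (S := T) ((hall_map_iff M.subtype_injective).1 (by rwa [map_top_subtype]))
      (fun c => k ?_) rfl (inv_top_iff.2 i)
    rw [W.map _ _ M.subtype_injective.injOn]
    exact (inv_map_inj c hp.out M.subtype_injective).mono (map_norm le_rfl _)
  have sub' : ∀ T M : Subgroup G, Syl 3 T ⊤ → T ≤ M → M ≠ ⊤ → ¬ Inv 3 M := fun T M t l m =>
    sub M T m (t.of_le l le_top) (h' T t)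
  have quo : ∀ (N : Subgroup G) [N.Normal], N ≠ ⊥ → ¬ Inv 3 (𝐍 (W.W (S.map (QuotientGroup.mk' N)))) →
      y ∈ N ∧ ¬ Inv 3 (⊤ : Subgroup (G ⧸ N)) := fun N _ m k => by
    have sj := map_top_of_surjective _ (QuotientGroup.mk'_surjective N)
    have := ih _ (card_quot_lt m) _ (sj ▸ s.map _) k rfl
    refine ⟨by_contra fun c => this ⟨(x : G ⧸ N), trivial, (y : G ⧸ N), trivial, ⟨j, congrArg (QuotientGroup.mk' N) x2⟩,
      orderOf_eq_prime ?_ (mt (QuotientGroup.eq_one_iff y).1 c), congrArg (QuotientGroup.mk' N) e⟩, this⟩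
    rw [← QuotientGroup.mk_pow, ← o, pow_orderOf_eq_one, QuotientGroup.mk_one]
  have y3 : PiElt {3} y := (piNat_self hp.out).dvd o.dvd
  have y1 : y ≠ 1 := fun c => hp.out.ne_one (by rw [← o, c, orderOf_one])
  have K0 : 𝐎 {3}ᶜ (⊤ : Subgroup G) = ⊥ := by_contra fun c => by
    have := normalIn_top.1 (O_normal {3}ᶜ (⊤ : Subgroup G))
    refine y1 (y3.eq_one ((O_pi _ _).elt (quo _ c fun i => h (Inv.of_map (by decide)
      (QuotientGroup.mk' (𝐎 {3}ᶜ (⊤ : Subgroup G))) ?_)).1))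
    rwa [PLocal.map_normalizer_of_coprime (s.pi.le (W.le S)).isPGroup _
      ((piNat_compl_single_iff_coprime hp.out).1 (O_pi _ _)), ← W.map]
    exact fun a ha b hb c => (mul_inv_eq_one.1 (eq_one_of_mem_bot (s.pi.inf_eq_bot (O_pi _ _))
      ⟨S.mul_mem ha (S.inv_mem hb), by simpa [div_eq_mul_inv] using QuotientGroup.eq_iff_div_mem.1 c⟩))
  have Q1 : 𝐎 {3} (⊤ : Subgroup G) ≠ ⊥ := fun c => by
    obtain ⟨T, t⟩ := exists_syl 3 (𝐍 (zpowers y))
    obtain ⟨T, ⟨U, u, u1, i, t⟩, mx⟩ := exists_max_card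
      (P := fun T : Subgroup G => ∃ U, PiGrp {3} U ∧ U ≠ ⊥ ∧ Inv 3 (𝐍 U) ∧ Syl 3 T (𝐍 U))
      ⟨zpowers y, y3.zpowers, by rwa [Ne, zpowers_eq_bot], ⟨x, cj_eq_self.1 (by
        rw [BG.cj_zpowers, e, zpowers_inv]), y, le_normalizer (mem_zpowers y), ⟨j, x2⟩, o, e⟩, t⟩
    have k : Inv 3 (𝐍 (W.W T)) := by_contra fun k => sub _ T (fun d => u1 (BG.eq_bot_mono c
      (le_O ⟨le_top, d.ge⟩ u))) t k i
    obtain ⟨R, r, l⟩ := exists_syl_le (le_normalizer.trans (W.normalizer_le T)) t.pi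
    rw [← eq_of_le_of_card_ge l (mx R ⟨_, t.pi.le (W.le T), W.ne_bot T t.pi.isPGroup
      (ne_bot_mono u1 (t.le_of_normal ⟨le_normalizer, le_rfl⟩ u)), k, r⟩)] at r
    exact h' T (r.syl_of_norm_le (W.normalizer_le T) le_top) k
  set Q := 𝐎 {3} (⊤ : Subgroup G)
  have nQ : Q ⊴ ⊤ := O_normal _ _
  have kQ : PiGrp {3} Q := O_pi _ _
  have := normalIn_top.1 nQ
  have sj := QuotientGroup.mk'_surjective Q
  obtain ⟨yQ, iQ⟩ := quo Q Q1 fun i => by
    have sb := s.pi.map (QuotientGroup.mk' Q)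
    refine sub' S _ s (map_le_iff_le_comap.1 (le_normalizer.trans (W.normalizer_le _))) (fun c => ?_)
      (Inv.of_map (by decide) (QuotientGroup.mk' Q) (by rwa [map_comap_eq_self_of_surjective sj]))
    have d := (map_top_of_surjective _ sj).ge.trans ((map_mono c.ge).trans (map_comap_le _ _))
    have l : (W.W (S.map (QuotientGroup.mk' Q))).comap (QuotientGroup.mk' Q) ≤ Q := le_O
      (normalIn_top.2 ((normalIn_top.1 ⟨le_top, d⟩).comap _)) (kQ.of_relIndex (by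
        have := (sb.le (W.le _)).le (map_comap_le (QuotientGroup.mk' Q) _)
        rwa [PiGrp, ← relIndex_ker, QuotientGroup.ker_mk'] at this))
    have z : S ≤ Q := by
      rw [← QuotientGroup.ker_mk' Q, ← Subgroup.map_eq_bot_iff]
      by_contra z
      refine W.ne_bot _ sb.isPGroup z ?_
      rw [← map_comap_eq_self_of_surjective sj (W.W _), Subgroup.map_eq_bot_iff, QuotientGroup.ker_mk']
      exact l
    exact h (iG.mono ((le_antisymm z (s.O_le) ▸ nQ.norm).trans (W.normalizer_le S)))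
  have cen : ∀ S M : Subgroup G, Syl 3 S ⊤ → S ≤ M → M ≠ ⊤ → ∀ T ≤ M, PiGrp {2} T → T ≤ 𝐂 Q :=
    fun S M s l m T a t => cent_of_not_inv hp.out (sub' S M s l m) kQ (s.O_le.trans l) t a (le_top.trans nQ.norm)
  have nC : 𝐂 Q ⊴ ⊤ := normalIn_top.2 inferInstance
  have r := s.inf_normal nC
  have nR : 𝐍 (S ⊓ 𝐂 Q) = ⊤ := by_contra fun c => by
    obtain ⟨L, l, a, b⟩ := lift_pi (f := QuotientGroup.mk' (𝐂 Q)) (M := 𝐍 (S ⊓ 𝐂 Q))
      (K := zpowers (x : G ⧸ 𝐂 Q)) (π := {2}) (by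
        have := congrArg (Subgroup.map (QuotientGroup.mk' (𝐂 Q))) (r.syl_frattini_sup nC)
        rw [Subgroup.map_sup, QuotientGroup.map_mk'_self, bot_sup_eq, top_inf_eq] at this
        rw [this, map_top_of_surjective _ (QuotientGroup.mk'_surjective _)]; exact le_top)
      (PiElt.zpowers (PiElt.map ((piNat_pow_self p2 j).dvd (orderOf_dvd_of_pow_eq_one x2)) (QuotientGroup.mk' _)))
    rw [(Subgroup.map_eq_bot_iff _).2 ((cen S _ s (norm_inf le_normalizer (le_top.trans nC.norm)) c L l a).trans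
      (QuotientGroup.ker_mk' _).ge), eq_comm, zpowers_eq_bot, QuotientGroup.eq_one_iff] at b
    rw [← b y yQ, mul_inv_cancel_right] at e
    exact ne_inv_of_odd (o ▸ by decide) y1 e
  have := r.dprod_of_cent (cent_anti (le_O ⟨le_top, nR.ge⟩ r.pi))
  have kC : PiGrp {3} (𝐂 Q) := by
    rw [← this.sdprod.sup, BG.eq_bot_mono K0 (O_le_O_of_normal nC _), sup_bot_eq]; exact r.pi
  refine not_inv_of_abs (by decide) hW (abs_of_odd kQ.sol iQ fun S M s l m => ?_) s h iG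
  obtain ⟨T, t⟩ := exists_syl 2 M
  exact Hall.pi'_of_eq_bot (t.pi.eq_bot ((kC.of_single_ne (by decide)).le (cen S M s l m T t.le t.pi)) ▸ t)

end CF.MS
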