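import Cfsg.Agent.MS.Uq
import Cfsg.Agent.Fgs3.MinNPC
import Cfsg.Agent.S4040

/-! Solvability criteria from the classification of the minimal simple groups. -/

set_option autoImplicit false
set_option linter.unusedSectionVars false

namespace CF.MS
open Subgroup Cfsg CF.BG CF.Classical CF.BN.Suz
open scoped MatrixGroups
open CF.Ab2 (NS ns_top p2)
open CF.SolvStr (WeakHomog exists_piNum_lift)

universe u

section
variable {G H : Type*} [Group G] [Group H] {f : G →* H} {a b : G}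

theorem sol_of_map {K : Subgroup G} (k : Sol f.ker) (h : Sol (K.map f)) : Sol K := by
  have := (sol_map_iff (H := f.ker.subgroupOf K) K.subtype_injective).1 (k.mono (map_comap_le _ _))
  exact Group.isSolvable_of_ker_le_range (f.ker.subgroupOf K).subtype (f.subgroupMap K) fun x hx =>
    ⟨⟨x, congrArg Subtype.val hx⟩, rfl⟩

theorem sol_pair (k : Sol f.ker) : Sol (closure {f a, f b}) ↔ Sol (closure {a, b}) := by
  rw [← Set.image_pair, ← MonoidHom.map_closure]
  exact ⟨sol_of_map k, fun h => h.map f⟩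

theorem sol_pair_sub {K : Subgroup G} {a b : K} : Sol (closure {(a : G), (b : G)}) ↔ Sol (closure {a, b}) :=
  sol_pair (f := K.subtype) (by rw [ker_subtype]; infer_instance)

theorem sol_pair_quot {N : Subgroup G} [N.Normal] (s : Sol N) :
    Sol (closure {(a : G ⧸ N), (b : G ⧸ N)}) ↔ Sol (closure {a, b}) :=
  sol_pair (f := QuotientGroup.mk' N) (by rwa [QuotientGroup.ker_mk'])

variable [Finite G]

theorem sol_inv (ha : a * a = 1) (hb : b * b = 1) : Sol (closure {a, b}) := by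
  refine ((abel_zpowers a).sol.sup (abel_zpowers (a * b)).sol (zpowers_le.2 (cj_eq_self.1 ?_))).mono
    ((closure_le _).2 (Set.pair_subset (mem_sup_left (mem_zpowers a)) ?_))
  · rw [cj_zpowers, ← zpowers_inv, Invol.left_inverts_mul ha hb, inv_inv]
  · simpa [← mul_assoc, ha] using mul_mem_sup (mem_zpowers a) (mem_zpowers (a * b))

theorem lift_pp {N : Subgroup G} [N.Normal] {p : ℕ} (hp : p.Prime) {x : G ⧸ N} (h : ∃ k, orderOf x = p ^ k) :
    ∃ y : G, (y : G ⧸ N) = x ∧ ∃ k, orderOf y = p ^ k := by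
  obtain ⟨x, rfl⟩ := QuotientGroup.mk'_surjective N x
  obtain ⟨k, e⟩ := h
  obtain ⟨y, -, c, d⟩ := exists_piNum_lift (π := {p}) _ ((piNat_pow_self hp k).dvd e.dvd)
  exact ⟨y, d, PiNat.exists_pow c (orderOf_pos y).ne'⟩

theorem homog_surj {ρ : Set ℕ} (h : WeakHomog ρ G) (s : Function.Surjective f) : WeakHomog ρ H := by
  intro q hq n Q k x hx o
  have : Finite H := .of_surjective f s
  obtain ⟨x, rfl⟩ := s x
  obtain ⟨S, sS⟩ := exists_syl q (Q.comap f)
  have e : S.map f = Q := by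
    have := sS.map f
    rw [map_comap_eq_self_of_surjective s] at this
    exact this.eq_of_pi (piGrp_of_isPGroup hq.out k)
  obtain ⟨c, hc, y, hy, rfl⟩ := sS.syl_frattini (M := 𝐍 (Q.comap f)) ⟨le_norm_self _, le_rfl⟩
    (le_normalizer_comap f hx)
  obtain ⟨d, hd, ed⟩ : f c ∈ S.map f := e ▸ hc
  obtain ⟨z, hz, oz, ez⟩ := exists_piNum_lift f (x := d * y) (by rwa [map_mul, ed, ← map_mul])
  have := h q hq n S sS.pi.isPGroup z (zpowers_le.2 (mul_mem (le_norm_self _ hd) hy.2) hz) oz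
  rw [map_mul, ← ed, ← map_mul, ← ez, ← e]
  rintro _ ⟨u, hu, rfl⟩
  rw [← map_mul, ← map_mul, this u hu]

theorem card_syl_pi {t : ℕ} {p : Fin t → ℕ} (hp : ∀ i, (p i).Prime) (i : Function.Injective p)
    (c : ∀ q : ℕ, q.Prime → q ∣ Nat.card G → ∃ i, p i = q) {S : Fin t → Subgroup G}
    (s : ∀ i, Syl (p i) (S i) ⊤) : Nat.card (∀ i, S i) = Nat.card G := by
  have e : ∀ i, ♯(S i) = p i ^ (Nat.card G).factorization (p i) := fun i => by
    have := Fact.mk (hp i)
    obtain ⟨P, e⟩ := (s i).exists_sylow_top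
    rw [← e, P.card_eq_multiplicity]
  rw [Nat.card_pi, Finset.prod_congr rfl fun i _ => e i, ← Finset.prod_image
    (f := fun q => q ^ (Nat.card G).factorization q) i.injOn]
  refine Eq.trans (Finset.prod_subset (fun q hq => ?_) fun q _ hq => ?_).symm
    (Nat.factorization_prod_pow_eq_self Nat.card_pos.ne')
  · obtain ⟨a, b, -⟩ := Nat.mem_primeFactors.1 hq
    simpa using c q a b
  · rw [Finsupp.notMem_support_iff.1 hq, pow_zero]

end

theorem four_primes {n a b c d : ℕ} (h0 : n ≠ 0) (h : a * b * c * d ∣ n) (a1 : a ≠ 1) (b1 : b ≠ 1)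
    (c1 : c ≠ 1) (d1 : d ≠ 1) (ab : a.Coprime b) (k : (a * b).Coprime c) (l : (a * b * c).Coprime d) :
    4 ≤ n.primeFactors.card := by
  have := Finset.card_le_card (Nat.primeFactors_mono h h0)
  have z := ne_zero_of_dvd_ne_zero h0 h
  have e : ∀ {x : ℕ}, x ≠ 0 → x ≠ 1 → 0 < x.primeFactors.card := fun x y =>
    Finset.card_pos.2 (Nat.nonempty_primeFactors.2 (by omega))
  simp only [mul_ne_zero_iff] at z
  rw [l.primeFactors_mul, Finset.card_union_of_disjoint l.disjoint_primeFactors, k.primeFactors_mul,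
    Finset.card_union_of_disjoint k.disjoint_primeFactors, ab.primeFactors_mul,
    Finset.card_union_of_disjoint ab.disjoint_primeFactors] at this
  have := e z.1.1.1 a1; have := e z.1.1.2 b1; have := e z.1.2 c1; have := e z.2 d1
  omega

theorem ex_23 {n : ℕ} (h0 : n ≠ 0) (h : ∀ r, r.Prime → r ∣ n → r = 2 ∨ r = 3) : ∃ a b, n = 2 ^ a * 3 ^ b := by
  obtain ⟨a, b, rfl, x, y⟩ := exists_pi_factor {2} h0
  obtain ⟨i, rfl⟩ := x.exists_pow (left_ne_zero_of_mul h0)
  obtain ⟨j, rfl⟩ := PiNat.exists_pow (p := 3) (fun r p d => (h r p (d.mul_left _)).resolve_left (y r p d))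
    (right_ne_zero_of_mul h0)
  exact ⟨i, j, rfl⟩

theorem stormer {u : ℕ} (h0 : u ≠ 0) (h : ∀ r, r.Prime → r ∣ u * (u + 1) → r = 2 ∨ r = 3) :
    u = 1 ∨ u = 2 ∨ u = 3 ∨ u = 8 := by
  obtain ⟨a, b, e⟩ := ex_23 h0 fun r p d => h r p (d.mul_right _)
  obtain ⟨c, d, f⟩ := ex_23 u.succ_ne_zero fun r p d => h r p (d.mul_left _)
  have m : ∀ k, 3 ^ k % 80 = 1 ∨ 3 ^ k % 80 = 3 ∨ 3 ^ k % 80 = 9 ∨ 3 ^ k % 80 = 27 := fun k => by
    induction k with
    | zero => simp
    | succ k ih => omega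
  have t : ∀ a d, (a ≠ 0 → 2 ∣ 2 ^ a * 3 ^ d) ∧ (d ≠ 0 → 3 ∣ 2 ^ a * 3 ^ d) := fun a d =>
    ⟨fun h => (dvd_pow_self 2 h).mul_right _, fun h => (dvd_pow_self 3 h).mul_left _⟩
  have t1 := e ▸ t a b
  have t2 := f ▸ t c d
  rcases a with _ | a
  · rcases b with _ | b
    · omega
    obtain rfl : d = 0 := by omega
    have := m (b + 1)
    rcases c with _ | _ | _ | c <;> omega
  obtain rfl : c = 0 := by omega
  have := m d
  rcases b with _ | b
  · have : ¬ 5 ∣ 2 ^ (a + 1) := fun h => absurd (Nat.prime_five.dvd_of_dvd_pow h) (by decide)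
    rcases a with _ | _ | _ | a <;> omega
  rcases d with _ | d <;> omega

theorem q_three {q n : ℕ} (h : Q q) (e : Nat.gcd 2 (q - 1) * n = q * (q ^ 2 - 1))
    (c : n.primeFactors.card ≤ 3) : q = 4 ∨ q = 5 ∨ q = 7 ∨ q = 8 ∨ q = 17 := by
  have h4 := h.four_le
  obtain ⟨u, rfl⟩ : ∃ u, q = u + 1 := ⟨q - 1, by omega⟩
  rw [show (u + 1) ^ 2 - 1 = u * (u + 2) from Nat.sub_eq_of_eq_add (by ring), Nat.add_sub_cancel] at e
  have n0 : n ≠ 0 := by rintro rfl; simp at e; omega
  have four := fun {a b c' d} h a1 b1 c1 d1 ab k l =>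
    (four_primes (a := a) (b := b) (c := c') (d := d) n0 h a1 b1 c1 d1 ab k l).not_gt (Nat.lt_succ_of_le c)
  rcases h with ⟨p, a, f⟩ | ⟨p, a, b, f⟩ | ⟨a, b⟩
  · rcases a.eq_two_or_odd' with rfl | o
    · omega
    have ev : 2 ∣ u + 1 := f ▸ dvd_pow_self 2 a.ne_zero
    have t3 : 3 ∣ u + 1 + 1 := by simpa [← f] using o.nat_add_dvd_pow_add_pow 2 1
    rw [(Nat.coprime_two_left.2 (Nat.odd_iff.2 (by omega))).gcd_eq_one, one_mul] at e
    have := stormer (u := u + 1) (by omega) fun r p d => (p.dvd_mul.1 d).imp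
      (fun d => (Nat.prime_dvd_prime_iff_eq p p2).1 (p.dvd_of_dvd_pow (f ▸ d))) fun d => by_contra fun k => by
        have c3 := (Nat.coprime_primes Nat.prime_three p).2 (Ne.symm k)
        have cu : (u + 1).Coprime (u + 2) ∧ u.Coprime (u + 2) := ⟨by simp [← add_assoc u 1 1],
          by simpa using Nat.odd_iff.2 (by omega)⟩
        have d3 := c3.mul_dvd_of_dvd_of_dvd t3 d
        refine four (a := u + 1) (b := u) (c' := 3) (d := r) (by
          rw [e, mul_assoc, mul_assoc]; exact mul_dvd_mul_left _ (mul_dvd_mul_left _ d3)) (by omega) (by omega)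
          (by decide) p.ne_one (by simp) ((cu.1.mul_left cu.2).coprime_dvd_right t3)
          (((cu.1.mul_left cu.2).coprime_dvd_right d).mul_left c3)
    omega
  · have m8 : (u + 1) % 8 = 3 := f ▸ pow_odd_mod_eight rfl (a.odd_of_ne_two b)
    have m3 : 3 ∣ u + 1 := f ▸ dvd_pow_self 3 a.ne_zero
    obtain ⟨v, rfl⟩ : ∃ v, u = 8 * v + 2 := ⟨u / 8, by omega⟩
    rw [Nat.gcd_eq_left (by omega)] at e
    have c3 : ∀ x, ¬ 3 ∣ x → Nat.Coprime 3 x := fun x => Nat.prime_three.coprime_iff_not_dvd.2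
    have c2 : ∀ x, x % 2 = 1 → Nat.Coprime 2 x := fun x h => Nat.coprime_two_left.2 (Nat.odd_iff.2 h)
    obtain ⟨w, hw⟩ := m3
    refine (four (a := 2) (b := 3) (c' := 4 * v + 1) (d := 2 * v + 1) ⟨2 * w, by nlinarith⟩ (by decide)
      (by decide) (by omega) (by omega) (by decide) ((c2 _ (by omega)).mul_left (c3 _ (by omega)))
      (((c2 _ (by omega)).mul_left (c3 _ (by omega))).mul_left ?_)).elim
    exact Nat.Coprime.symm (Nat.Coprime.coprime_dvd_left (k := 4 * v + 1 + 1) ⟨2, by ring⟩ (by simp))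
  · obtain ⟨v, rfl⟩ : ∃ v, u = 2 * v := ⟨u / 2, by have := a.eq_two_or_odd; omega⟩
    rw [Nat.gcd_eq_left (by omega)] at e
    have e' : n = (2 * v + 1) * (v * (v + 1)) * 2 := by nlinarith
    have n3 : ¬ 3 ∣ 2 * v + 1 := fun d => by
      have := (Nat.prime_dvd_prime_iff_eq Nat.prime_three a).1 d; omega
    have := stormer (u := v) (by omega) fun r p d => by_contra fun k => by
      rw [not_or] at k
      have c : ∀ {x y : ℕ}, x.Prime → y.Prime → x ≠ y → x.Coprime y := fun x y => (Nat.coprime_primes x y).2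
      have t3 : 3 ∣ v * (v + 1) := Nat.prime_three.dvd_mul.2 (by
        rcases (by omega : v % 3 = 0 ∨ v % 3 = 1 ∨ v % 3 = 2) with h | h | h <;> omega)
      have rq : 2 * v + 1 ≠ r := fun e => (p.dvd_mul.1 d).elim
        (fun d => by have := Nat.le_of_dvd (by omega) d; omega) fun d => by have := Nat.le_of_dvd v.succ_pos d; omega
      have c3 := c Nat.prime_three p (Ne.symm k.2)
      refine four (a := 2) (b := 2 * v + 1) (c' := 3) (d := r) (by
        rw [e', mul_comm _ 2, mul_assoc, mul_assoc]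
        exact mul_dvd_mul_left _ (mul_dvd_mul_left _ (c3.mul_dvd_of_dvd_of_dvd t3 d))) (by decide) a.ne_one
        (by decide) p.ne_one (by simp) ((c p2 Nat.prime_three (by decide)).mul_left (c a Nat.prime_three (by omega)))
        (((c p2 p (Ne.symm k.1)).mul_left (c a p rq)).mul_left c3)
    omega

variable [Thm.{u}] {G : Type u} [Group G] [Finite G]

theorem uq (h : IsMinimalSimple G) : ∃ (x : G) (M : Subgroup G) (r k : ℕ), r.Prime ∧ r ≠ 2 ∧
    orderOf x = r ^ k ∧ IsCoatom M ∧ (∀ S, Sol S → x ∈ S → S ≤ M) ∧ (∀ g, g * x * g⁻¹ ∈ M → g ∈ M) ∧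
      ∀ y : G, y ≠ 1 → ∃ g, g * y * g⁻¹ ∉ M := by
  obtain ⟨x, M, r, a, b, c, d, e, k⟩ := (props h).1
  have := h.1
  obtain ⟨j, o⟩ := PiNat.exists_pow c (orderOf_pos x).ne'
  have m : x ∈ M := k _ (abel_zpowers x).sol (mem_zpowers x) (mem_zpowers x)
  refine ⟨x, M, r, j, a, b, o, ⟨e, fun K l => by_contra fun n => l.not_ge (k _ (h.2.2 K n) (l.le m))⟩, k,
    fun g hg => k (𝐍 M) (h.2.2 _ fun n => ?_) (le_norm_self _ m) (inv_mem_iff.1 (mem_norm_of_cj_le
      (k _ (Sol.map (h.2.2 M e) _) (mem_cj_inv.2 hg)))), fun y y1 => by_contra fun n => ?_⟩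
  · exact ((normalizer_eq_top_iff.1 n).eq_bot_or_eq_top).elim (ne_bot_of_mem m d) e
  · rcases M.normalCore_normal.eq_bot_or_eq_top with f | f
    · exact ne_bot_of_mem (H := M.normalCore) (fun g => not_not.1 (not_exists.1 n g)) y1 f
    · exact e (eq_top_iff.2 (f.ge.trans M.normalCore_le))

theorem ex_inv (h : IsMinimalSimple G) : ∃ t : G, orderOf t = 2 :=
  exists_prime_orderOf_dvd_card' 2 (by_contra fun n => (ns_of_min h).not_sol
    (Ab2.sol_top.2 (Hyp.isSolvable_of_odd (Nat.odd_iff.2 (Nat.two_dvd_ne_zero.1 n)))))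

theorem cor4103 (h : ∀ x y : G, (∃ p k : ℕ, p.Prime ∧ p ≠ 2 ∧ orderOf x = p ^ k) → (∃ k : ℕ, orderOf y = 2 ^ k) →
    Sol (closure {x, y * x * y⁻¹})) : Group.IsSolvable G := by
  refine red (fun G _ => ∀ x y : G, (∃ p k : ℕ, p.Prime ∧ p ≠ 2 ∧ orderOf x = p ^ k) →
    (∃ k : ℕ, orderOf y = 2 ^ k) → Sol (closure {x, y * x * y⁻¹})) (fun G _ _ H h x y a b => ?_)
    (fun G _ _ N _ s n h x y ⟨p, k, a, b, c⟩ d => ?_) (fun G _ _ m h => ?_) G h
  · exact sol_pair_sub.1 (h x y (by simpa using a) (by simpa using b))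
  · obtain ⟨x, rfl, k, c'⟩ := lift_pp a ⟨k, c⟩
    obtain ⟨y, rfl, d'⟩ := lift_pp p2 d
    exact (sol_pair_quot (s N n)).2 (h x y ⟨p, k, a, b, c'⟩ d')
  obtain ⟨x, M, r, k, a, b, c, -, d, e, f⟩ := uq m
  obtain ⟨t, o⟩ := ex_inv m
  obtain ⟨g, n⟩ := f t (ne_one_of_prime (o ▸ p2))
  exact n (e _ (d _ (h x (g * t * g⁻¹) ⟨r, k, a, b, c⟩ ⟨1, by rw [orderOf_conj', o]; rfl⟩)
    (subset_closure (.inl rfl)) (subset_closure (.inr rfl))))

theorem cor0489 (h : ∀ a b : G, Sol (closure {a, b})) : Group.IsSolvable G := cor4103 fun _ _ _ _ => h _ _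

theorem cor4078 (h : ∀ x : G, ∃ H : Subgroup G, (H : Set G) = {y | Sol (closure {x, y})}) :
    Group.IsSolvable G := by
  refine red (fun G _ => ∀ x : G, ∃ H : Subgroup G, ∀ y, y ∈ H ↔ Sol (closure {x, y}))
    (fun G _ _ H h x => ?_) (fun G _ _ N _ s n h x => ?_) (fun G _ _ m h => ?_) G
    fun x => (h x).imp fun H e => Set.ext_iff.1 e
  · obtain ⟨K, e⟩ := h x
    exact ⟨K.subgroupOf H, fun y => (e y).trans sol_pair_sub⟩
  · obtain ⟨x, rfl⟩ := QuotientGroup.mk_surjective x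
    obtain ⟨K, e⟩ := h x
    refine ⟨K.map (QuotientGroup.mk' N), fun y => ⟨?_, ?_⟩⟩
    · rintro ⟨y, a, rfl⟩
      exact (sol_pair_quot (s N n)).2 ((e y).1 a)
    · obtain ⟨y, rfl⟩ := QuotientGroup.mk_surjective y
      exact fun a => ⟨y, (e y).2 ((sol_pair_quot (s N n)).1 a), rfl⟩
  obtain ⟨x, M, r, k, -, -, -, -, d, -, f⟩ := uq m
  obtain ⟨t, o⟩ := ex_inv m
  obtain ⟨g, n⟩ := f t (ne_one_of_prime (o ▸ p2))
  rw [← orderOf_conj' g] at o
  generalize g * t * g⁻¹ = t at o n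
  obtain ⟨K, e⟩ := h t
  have i := Invol.mul_self_of_orderOf o
  have := m.1
  rcases K.normalCore_normal.eq_bot_or_eq_top with c | c
  · exact ne_bot_of_mem (H := K.normalCore) (fun g => (e _).2 (sol_inv i (by rw [conj_mul, i]; group)))
      (ne_one_of_prime (o ▸ p2)) c
  · exact n (d _ ((e x).1 (K.normalCore_le (c ▸ mem_top x))) (subset_closure (by simp))
      (subset_closure (by simp)))

theorem cor3843 (h : ∀ p q : ℕ, p.Prime → q.Prime → p ≠ q → ∀ x y : G, (∃ k : ℕ, orderOf x = p ^ k) →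
    (∃ k : ℕ, orderOf y = q ^ k) → Sol (closure {x, y}) → ∀ g : G, Sol (closure {x, g * y * g⁻¹})) :
    Group.IsSolvable G := by
  refine red (fun G _ => ∀ p q : ℕ, p.Prime → q.Prime → p ≠ q → ∀ x y : G, (∃ k : ℕ, orderOf x = p ^ k) →
    (∃ k : ℕ, orderOf y = q ^ k) → Sol (closure {x, y}) → ∀ g : G, Sol (closure {x, g * y * g⁻¹}))
    (fun G _ _ H h p q a b c x y d e s g => ?_) (fun G _ _ N _ s n h p q a b c x y d e f g => ?_)
    (fun G _ _ m h => ?_) G h
  · exact sol_pair_sub.1 (h p q a b c x y (by simpa using d) (by simpa using e) (sol_pair_sub.2 s) g)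
  · obtain ⟨x, rfl, d'⟩ := lift_pp a d
    obtain ⟨y, rfl, e'⟩ := lift_pp b e
    obtain ⟨g, rfl⟩ := QuotientGroup.mk_surjective g
    exact (sol_pair_quot (s N n)).2 (h p q a b c x y d' e' ((sol_pair_quot (s N n)).1 f) g)
  obtain ⟨x, M, r, k, a, b, c, cM, d, -, f⟩ := uq m
  obtain ⟨q, pq, dq, n⟩ : ∃ q : ℕ, q.Prime ∧ q ∣ ♯M ∧ q ≠ r := by
    by_contra! n
    obtain ⟨j, e⟩ := PiGrp.card_pow (p := r) (H := M) n
    exact (ns_of_min m).not_sol (Ab2.sol_top.2 (Agent.S4040.result M cM (PiGrp.nil (p := r) n)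
      (e ▸ (a.odd_of_ne_two b).pow)))
  have := Fact.mk pq
  obtain ⟨⟨y, hy⟩, o⟩ := exists_prime_orderOf_dvd_card' q dq
  rw [orderOf_mk] at o
  obtain ⟨g, e⟩ := f y (ne_one_of_prime (o ▸ pq))
  refine e (d _ (h r q a pq n.symm x y ⟨k, c⟩ ⟨1, by simpa⟩ (Sol.mono (m.2.2 M cM.1) ((closure_le _).2
    (Set.pair_subset ?_ hy))) g) (subset_closure (by simp)) (subset_closure (by simp)))
  exact d _ (abel_zpowers x).sol (mem_zpowers x) (mem_zpowers x)

theorem cor4046 {ρ : Set ℕ} (t : 2 ∈ ρ) (s : ∀ H : Subgroup G, PiGrp ρ H → Sol H) (w : WeakHomog ρ G) :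
    SolvStr.PiClosed ρ G := by
  have := red (fun G _ => (∀ H : Subgroup G, PiGrp ρ H → Sol H) ∧ WeakHomog ρ G)
    (fun G _ _ H h => ⟨fun K k => (sol_map_iff H.subtype_injective).1 (h.1 _ (k.map _)),
      homog_comap h.2 _ H.subtype_injective⟩)
    (fun G _ _ N _ s n h => ⟨fun K k => ?_, homog_surj h.2 (QuotientGroup.mk'_surjective N)⟩)
    (fun G _ _ m h => (ns_of_min m).not_sol (h.1 _ fun p a d => ?_)) G ⟨s, w⟩
  · exact w.piClosed (Solv.isPiSep_of_isSolvable ρ)
  · have sj := QuotientGroup.mk'_surjective N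
    by_cases e : K = ⊤
    swap
    · rw [← map_comap_eq_self_of_surjective sj K]
      exact Sol.map (s _ fun c => e (by rw [← map_comap_eq_self_of_surjective sj K, c,
        map_top_of_surjective _ sj])) _
    subst e
    have := s N n
    obtain ⟨L, l⟩ := (Solv.isPiSep_of_normal_of_quotient N (Solv.isPiSep_of_isSolvable ρ)
      (Solv.isPiSep_of_piNum (.inl (card_top (G := G ⧸ N) ▸ k)))).exists_isPiHall
    have l := hall_top_iff.2 l
    have := l.map (QuotientGroup.mk' N)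
    rw [map_top_of_surjective _ sj] at this
    exact this.eq_of_pi k ▸ (h.1 L l.pi).map _
  · have := Fact.mk a
    obtain ⟨x, rfl⟩ := exists_prime_orderOf_dvd_card' p (card_top (G := G) ▸ d)
    exact (props m).2.2 ρ t h.2 x a

theorem cor4048 {ρ : Set ℕ} (t : 2 ∈ ρ) (c : (Nat.card G).primeFactors.card = 4) (w : WeakHomog ρ G) :
    SolvStr.PiClosed ρ G := by
  classical
  by_cases k : ((Nat.card G).primeFactors.filter (· ∈ ρ)).card ≤ 2
  · refine cor4046 t (fun H h => Char.isSolvable_of_card_primeFactors_le_two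
      ((Finset.card_le_card fun p hp => ?_).trans k)) w
    obtain ⟨a, b, -⟩ := Nat.mem_primeFactors.1 hp
    exact Finset.mem_filter.2 ⟨Nat.mem_primeFactors.2 ⟨a, b.trans (card_subgroup_dvd_card H),
      Nat.card_pos.ne'⟩, h p a b⟩
  have := Finset.card_filter_add_card_filter_not (s := (Nat.card G).primeFactors) (· ∈ ρ)
  by_cases e : ∀ p, p.Prime → p ∣ Nat.card G → p ∈ ρ
  · exact w.piClosed (Solv.isPiSep_of_piNum (.inl e))
  push Not at e
  obtain ⟨p, a, b, n⟩ := e
  have u : ∀ q, q.Prime → q ∣ Nat.card G → q ∈ ({p}ᶜ : Set ℕ) → q ∈ ρ := fun q c d e => by_contra fun f =>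
    e (Finset.card_le_one.1 (by omega : ((Nat.card G).primeFactors.filter (· ∉ ρ)).card ≤ 1) q
      (by simp [c, d, f, Nat.card_pos.ne']) p (by simp [a, b, n, Nat.card_pos.ne']))
  have h := Fgs3.npc_of_cent a (H := (⊤ : Subgroup G)) fun X _ _ x g _ hg o => w p ⟨a⟩ n X x.isPGroup g hg
    fun q c d => u q c (d.trans (orderOf_dvd_natCard g)) (o q c d)
  have := normalIn_top.1 (O_normal {p}ᶜ (⊤ : Subgroup G))
  refine w.piClosed (Solv.isPiSep_of_normal_of_quotient (𝐎 {p}ᶜ ⊤) (Solv.isPiSep_of_piNum (.inl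
    fun q c d => u q c (d.trans (card_subgroup_dvd_card _)) (O_pi _ _ q c d)))
    (Solv.isPiSep_of_piNum (.inr fun q c d => ?_)))
  exact (h.idx.of_compl_compl q c (by rwa [relIndex_top_right]) :) ▸ n

/-- three non-trivial elements of pairwise coprime orders with product one -/
def Cop (G : Type*) [Group G] : Prop := ∃ a b c : G, a ≠ 1 ∧ b ≠ 1 ∧ c ≠ 1 ∧
  (orderOf a).Coprime (orderOf b) ∧ (orderOf b).Coprime (orderOf c) ∧ (orderOf a).Coprime (orderOf c) ∧
    a * b * c = 1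

omit [Thm.{u}] in
theorem Cop.lift_p {H : Type*} [Group H] {f : G →* H} (s : Function.Surjective f) {p : ℕ}
    (k : PiGrp {p} f.ker) (h : Cop H) : Cop G := by
  have key : ∀ a b c : H, a ≠ 1 → b ≠ 1 → c ≠ 1 → (orderOf a).Coprime (orderOf b) →
      (orderOf b).Coprime (orderOf c) → (orderOf a).Coprime (orderOf c) → a * b * c = 1 →
      PiElt {p}ᶜ a → PiElt {p}ᶜ b → Cop G := fun a b c a1 b1 c1 ab bc ac e pa pb => by
    obtain ⟨a, rfl⟩ := s a
    obtain ⟨b, rfl⟩ := s b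
    obtain ⟨x, -, ox, ex⟩ := exists_piNum_lift f (piNat_piOf (orderOf (f a)))
    obtain ⟨y, -, oy, ey⟩ := exists_piNum_lift f (piNat_piOf (orderOf (f b)))
    have ez : f (x * y)⁻¹ = c := by rw [map_inv, map_mul, ex, ey, inv_eq_of_mul_eq_one_right e]
    have oz : ∀ q, q.Prime → q ∣ orderOf (x * y)⁻¹ → q = p ∨ q ∣ orderOf c := fun q pq d =>
      (pq.dvd_mul.1 (d.trans (orderOf_dvd_of_pow_eq_one (n := orderOf c * ♯f.ker) (by
        rw [pow_mul]
        exact orderOf_dvd_iff_pow_eq_one.1 (orderOf_dvd_natCard _ (by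
          rw [MonoidHom.mem_ker, map_pow, ez, pow_orderOf_eq_one])))))).symm.imp_left (k q pq)
    refine ⟨x, y, (x * y)⁻¹, fun h => a1 (by rw [← ex, h, map_one]), fun h => b1 (by rw [← ey, h, map_one]),
      fun h => c1 (by rw [← ez, h, map_one]), coprime_of_primes fun q pq d d' => not_dvd_of_coprime ab pq
        (ox q pq d).2 (oy q pq d').2, coprime_of_primes fun q pq d d' => ?_,
      coprime_of_primes fun q pq d d' => ?_, mul_inv_cancel _⟩
    · exact (oz q pq d').elim (pb q pq (oy q pq d).2) (not_dvd_of_coprime bc pq (oy q pq d).2)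
    · exact (oz q pq d').elim (pa q pq (ox q pq d).2) (not_dvd_of_coprime ac pq (ox q pq d).2)
  obtain ⟨a, b, c, a1, b1, c1, ab, bc, ac, e⟩ := h
  have e2 : b * c * a = 1 := mul_eq_one_comm.1 (mul_assoc a b c ▸ e)
  have n : ∀ {x y : H}, (orderOf x).Coprime (orderOf y) → PiElt {p}ᶜ x ∨ PiElt {p}ᶜ y := fun h =>
    or_iff_not_imp_left.2 fun k q pq d e => k fun r pr d' e' => not_dvd_of_coprime h pr d' (e' ▸ e ▸ d)
  have r2 := key b c a b1 c1 a1 bc ac.symm ab.symm e2
  have r3 := key c a b c1 a1 b1 ac.symm ab bc.symm (mul_eq_one_comm.1 (mul_assoc b c a ▸ e2))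
  have r1 := key a b c a1 b1 c1 ab bc ac e
  rcases n ab with x | x
  · exact (n bc).elim (r1 x) (r3 · x)
  · exact (n ac).elim (r1 · x) (r2 x)

omit [Thm.{u}] in
theorem Cop.lift {H : Type*} [Group H] (h : Cop H) (G : Type u) [Group G] [Finite G] {f : G →* H}
    (s : Function.Surjective f) (k : Sol f.ker) : Cop G := by
  induction hn : Nat.card G using Nat.strong_induction_on generalizing G with | _ n ih =>
  subst hn
  by_cases e : f.ker = ⊥
  · exact h.lift_p s (p := 2) (e ▸ piGrp_bot _)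
  obtain ⟨p, V, -, v1, l, n, a⟩ := k.exists_abelem_norm e (A := ⊤) le_normalizer_of_normal
  have := normalIn_top.1 ⟨le_top, n⟩
  refine (ih _ (card_quot_lt v1) (G ⧸ V) (f := QuotientGroup.lift V f l.le)
    (QuotientGroup.lift_surjective_of_surjective _ _ s _) ?_ rfl).lift_p (QuotientGroup.mk'_surjective V)
      (p := p) (by rw [QuotientGroup.ker_mk']; exact a.pi)
  rw [QuotientGroup.ker_lift]
  exact k.map _

omit [Thm.{u}] in
theorem Cop.not_sol (h : Cop G) : ¬ Group.IsSolvable G := fun s => by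
  obtain ⟨a, b, c, a1, -, -, ab, bc, ac, e⟩ := h
  have key : ∀ (K : Subgroup G) (a b c : K), (orderOf a).Coprime (orderOf b) →
      (orderOf a).Coprime (orderOf c) → a * b * c = 1 → (a : G) ∈ ⁅K, K⁆ := fun K a b c ab ac e => by
    rw [← map_subtype_commutator]
    refine mem_map_of_mem _ ((QuotientGroup.eq_one_iff a).1 (orderOf_eq_one_iff.1 (?_ :
      orderOf (Abelianization.of a) = 1)))
    refine Nat.eq_one_of_dvd_coprimes (ab.mul_right ac) (orderOf_map_dvd _ _) ?_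
    rw [eq_inv_of_mul_eq_one_left ((mul_assoc a b c).symm.trans e), map_inv, orderOf_inv, map_mul]
    exact (Commute.all _ _).orderOf_mul_dvd_mul_orderOf.trans
      (mul_dvd_mul (orderOf_map_dvd _ _) (orderOf_map_dvd _ _))
  have e2 : b * c * a = 1 := mul_eq_one_comm.1 (mul_assoc a b c ▸ e)
  have ha : a ∈ closure {a, b, c} := subset_closure (by simp)
  have hb : b ∈ closure {a, b, c} := subset_closure (by simp)
  have hc : c ∈ closure {a, b, c} := subset_closure (by simp)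
  refine ne_bot_of_mem ha a1 (Sol.eq_bot_of_le_der inferInstance ((closure_le _).2 ?_))
  rintro x (rfl | rfl | rfl)
  · exact key _ ⟨_, ha⟩ ⟨_, hb⟩ ⟨_, hc⟩ (by simpa) (by simpa) (Subtype.ext e)
  · exact key _ ⟨_, hb⟩ ⟨_, hc⟩ ⟨_, ha⟩ (by simpa) (by simpa using ab.symm) (Subtype.ext e2)
  · exact key _ ⟨_, hc⟩ ⟨_, ha⟩ ⟨_, hb⟩ (by simpa using ac.symm) (by simpa using bc.symm)
      (Subtype.ext (mul_eq_one_comm.1 (mul_assoc b _ a ▸ e2)))

theorem cor0490 : ¬ Group.IsSolvable G ↔ Cop G := by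
  refine ⟨fun n => ?_, Cop.not_sol⟩
  obtain ⟨H, N, _, s, m⟩ := exists_sec G n
  obtain ⟨a, b, c, pa, pb, pc, ab, bc, ac, e⟩ := (props m).2.1
  obtain ⟨a, b, c, h⟩ := Cop.lift ⟨a, b, c, ne_one_of_prime pa, ne_one_of_prime pb, ne_one_of_prime pc,
    (Nat.coprime_primes pa pb).2 ab, (Nat.coprime_primes pb pc).2 bc, (Nat.coprime_primes pa pc).2 ac, e⟩
    H (QuotientGroup.mk'_surjective N) (by rwa [QuotientGroup.ker_mk'])
  exact ⟨a, b, c, by simpa only [Ne, OneMemClass.coe_eq_one, orderOf_coe, ← coe_mul] using h⟩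

theorem cor4393 (h : ∀ (t : ℕ) (p : Fin t → ℕ), (∀ i, (p i).Prime) → Function.Injective p →
    (∀ q : ℕ, q.Prime → q ∣ Nat.card G → ∃ i, p i = q) → ∀ (S : (i : Fin t) → Sylow (p i) G) (g : G),
      ∃ s : (i : Fin t) → G, (∀ i, s i ∈ (S i : Subgroup G)) ∧ g = (List.ofFn s).prod) :
    Group.IsSolvable G := by
  by_contra n
  obtain ⟨H, N, _, -, m⟩ := exists_sec G n
  obtain ⟨a, b, c, pa, pb, pc, ab, bc, ac, e⟩ := (props m).2.1
  let R := (Nat.card G).primeFactors \ {orderOf a, orderOf b, orderOf c}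
  let p : Fin (R.card + 3) → ℕ := Fin.cons (orderOf a) (Fin.cons (orderOf b) (Fin.cons (orderOf c)
    (R.orderEmbOfFin rfl)))
  let x : Fin (R.card + 3) → H ⧸ N := Fin.cons a (Fin.cons b (Fin.cons c 1))
  have hR : ∀ i, R.orderEmbOfFin rfl i ∈ R := fun i => R.orderEmbOfFin_mem rfl i
  have hp : ∀ i, (p i).Prime := by
    simp only [p, Fin.forall_fin_succ, Fin.cons_zero, Fin.cons_succ]
    exact ⟨pa, pb, pc, fun i => Nat.prime_of_mem_primeFactors (Finset.mem_sdiff.1 (hR i)).1⟩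
  have pi : Function.Injective p := by
    have := fun i => (Finset.mem_sdiff.1 (hR i)).2
    simp only [p, Fin.cons_injective_iff, Fin.range_cons, Set.mem_insert_iff, Set.mem_range, not_or,
      not_exists, Finset.mem_insert, Finset.mem_singleton] at this ⊢
    exact ⟨⟨ab, ac, fun i => (this i).1⟩, ⟨bc, fun i => (this i).2.1⟩, fun i => (this i).2.2,
      (R.orderEmbOfFin rfl).injective⟩
  have cv : ∀ q : ℕ, q.Prime → q ∣ Nat.card G → ∃ i, p i = q := fun q pq d => by
    have : q ∈ Set.range p := by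
      simp only [p, Fin.range_cons, Finset.range_orderEmbOfFin, R]
      by_contra! k
      simp [pq, d, Nat.card_pos.ne'] at k
      exact k.2.2.2 k.1 k.2.1 |> k.2.2.1
    exact this
  have px : ∀ i, PiElt {p i} (x i) := by
    simp only [p, x, Fin.forall_fin_succ, Fin.cons_zero, Fin.cons_succ]
    exact ⟨piNat_self pa, piNat_self pb, piNat_self pc, fun i => piElt_one _⟩
  have f := QuotientGroup.mk'_surjective N
  choose y ey using fun i => lift_pp (hp i) ((px i).exists_pow (orderOf_pos _).ne')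
  choose U sU lU using fun i => exists_syl_le (M := ⊤) (K := zpowers (y i)) (p := p i) le_top
    (piGrp_zpowers.2 ((ey i).2.elim fun k e => (piNat_pow_self (hp i) k).dvd e.dvd))
  choose S sS lS using fun i => exists_syl_le (M := ⊤) le_top ((sU i).pi.map H.subtype)
  have d1 := card_subgroup_dvd_card H
  have i1 : Function.Injective fun s : ∀ i, S i => (List.ofFn fun i => (s i : G)).prod := by
    refine ((Nat.bijective_iff_surjective_and_card _).2 ⟨fun g => ?_, card_syl_pi hp pi cv sS⟩).1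
    choose P e using fun i => @Hall.exists_sylow_top _ _ _ _ _ ⟨hp i⟩ (sS i)
    obtain ⟨s, a, b⟩ := h _ p hp pi cv P g
    exact ⟨fun i => ⟨s i, e i ▸ a i⟩, b.symm⟩
  have i2 : Function.Surjective fun s : ∀ i, U i => (List.ofFn fun i => (s i : H)).prod := by
    refine ((Nat.bijective_iff_injective_and_card _).2 ⟨fun s t e => funext fun i => ?_,
      card_syl_pi hp pi (fun q a d => cv q a (d.trans d1)) sU⟩).2
    have := congrFun (i1 (a₁ := fun i => ⟨s i, lS i ⟨_, (s i).2, rfl⟩⟩)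
      (a₂ := fun i => ⟨t i, lS i ⟨_, (t i).2, rfl⟩⟩) (by
        have := congrArg H.subtype e
        rwa [map_list_prod, map_list_prod, List.map_ofFn, List.map_ofFn] at this)) i
    exact Subtype.ext (Subtype.ext (Subtype.mk.inj this))
  have i3 : Function.Injective fun s : ∀ i, (U i).map (QuotientGroup.mk' N) =>
      (List.ofFn fun i => (s i : H ⧸ N)).prod := by
    refine ((Nat.bijective_iff_surjective_and_card _).2 ⟨fun g => ?_, card_syl_pi hp pi (fun q a d =>
      cv q a ((d.trans (card_quotient_dvd_card N)).trans d1)) fun i => ?_⟩).1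
    · obtain ⟨g, rfl⟩ := f g
      obtain ⟨s, rfl⟩ := i2 g
      exact ⟨fun i => ⟨_, _, (s i).2, rfl⟩, by simp only [map_list_prod, List.map_ofFn]; rfl⟩
    · exact map_top_of_surjective _ f ▸ (sU i).map _
  have := congrFun (i3 (a₁ := fun i => ⟨x i, y i, lU i (mem_zpowers _), (ey i).1⟩) (a₂ := 1) (by
    simpa [x, List.ofFn_succ, ← mul_assoc] using e)) 0
  exact ne_one_of_prime pa (congrArg Subtype.val this)

theorem three (m : IsMinimalSimple G) (c : (Nat.card G).primeFactors.card ≤ 3) :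
    ∃ (F : Type) (_ : Field F) (_ : Fintype F),
      ((Fintype.card F = 5 ∨ Fintype.card F = 7 ∨ Fintype.card F = 8 ∨ Fintype.card F = 17) ∧
          Nonempty (G ≃* PSL(2, F))) ∨ (Fintype.card F = 3 ∧ Nonempty (G ≃* PSL(3, F))) := by
  rcases cases m with ⟨F, _, _, q, ⟨e⟩⟩ | e | ⟨F, _, _, k, hk, hF, ⟨e⟩⟩
  · rcases q_three q card_PSL_two' (Nat.card_congr e.toEquiv ▸ c) with f | f
    · have := Fact.mk Nat.prime_five
      obtain ⟨a⟩ := PSL2_four_equiv f
      obtain ⟨b⟩ := PSL2_five_equiv (Nat.card_zmod 5)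
      exact ⟨ZMod 5, _, _, .inl ⟨.inl (ZMod.card 5), ⟨e.trans (a.trans b.symm)⟩⟩⟩
    · exact ⟨F, _, _, .inl ⟨Nat.card_eq_fintype_card (α := F) ▸ f, ⟨e⟩⟩⟩
  · exact ⟨ZMod 3, _, _, .inr ⟨ZMod.card 3, e⟩⟩
  have D := (lieD F k hF).ofEquiv e
  have f := Nat.card_eq_fintype_card.trans hF
  have h8 := eight_le_natCard hk f
  have ev := (titsOfCard F k hF).even_card
  obtain ⟨a1, a2, a3⟩ := tori_arith ev (sq_two_pow f) h8
  generalize 2 ^ (k + 1) = r at a1 a2 a3
  have cp := fun b d => (coprime_sq_add_one ev (b := b) d).symm.coprime_dvd_left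
    (mul_dvd_mul_right (dvd_mul_left _ 2) _)
  exact ((four_primes Nat.card_pos.ne' (by
    rw [D.card_G, mul_assoc, a1]
    exact mul_dvd_mul_right (mul_dvd_mul_right (dvd_pow_self _ two_ne_zero) _) _) (by omega) (by omega)
    (by omega) (by omega) ((Nat.coprime_self_sub_right (by omega)).2 (by simp)) (cp _ (Dvd.intro _ a1))
    ((cp _ (Dvd.intro_left _ a1)).mul_left a2)).not_gt (Nat.lt_succ_of_le c)).elim

theorem cor0491 (h : ¬ Group.IsSolvable G) (c : (Nat.card G).primeFactors.card ≤ 3) :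
    ∃ (H : Subgroup G) (N : Subgroup H) (_ : N.Normal) (F : Type) (_ : Field F) (_ : Fintype F),
      ((Fintype.card F = 5 ∨ Fintype.card F = 7 ∨ Fintype.card F = 8 ∨ Fintype.card F = 17) ∧
        Nonempty (H ⧸ N ≃* PSL(2, F))) ∨ (Fintype.card F = 3 ∧ Nonempty (H ⧸ N ≃* PSL(3, F))) := by
  obtain ⟨H, N, _, -, m⟩ := exists_sec G h
  exact ⟨H, N, _, three m ((Finset.card_le_card (Nat.primeFactors_mono ((card_quotient_dvd_card N).trans
    (card_subgroup_dvd_card H)) Nat.card_pos.ne')).trans c)⟩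

theorem cor0492 (h : ¬ Group.IsSolvable G) (c : (Nat.card G).primeFactors.card = 3) :
    (Nat.card G).primeFactors = {2, 3, 5} ∨ (Nat.card G).primeFactors = {2, 3, 7} ∨
      (Nat.card G).primeFactors = {2, 3, 13} ∨ (Nat.card G).primeFactors = {2, 3, 17} := by
  obtain ⟨H, N, _, F, _, _, k⟩ := cor0491 h c.le
  have key : ∀ n r, Nat.card (H ⧸ N) = n → 2 * 3 * r ∣ n → r.Prime → 3 < r →
      (Nat.card G).primeFactors = {2, 3, r} := fun n r e d p l => by
    have d := (e ▸ d).trans ((card_quotient_dvd_card N).trans (card_subgroup_dvd_card H))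
    refine (Finset.eq_of_subset_of_card_le (fun q hq => Nat.mem_primeFactors.2 ?_) ?_).symm
    · simp only [Finset.mem_insert, Finset.mem_singleton] at hq
      rcases hq with rfl | rfl | rfl
      exacts [⟨p2, (by rw [mul_assoc]; simp : _ ∣ _).trans d, Nat.card_pos.ne'⟩, ⟨Nat.prime_three,
        ((dvd_mul_left 3 2).mul_right r).trans d, Nat.card_pos.ne'⟩, ⟨p, (dvd_mul_left _ _).trans d, Nat.card_pos.ne'⟩]
    · rw [c, Finset.card_eq_three.2 ⟨_, _, _, by decide, by omega, by omega, rfl⟩]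
  rw [← Nat.card_eq_fintype_card] at k
  rcases k with ⟨f, ⟨e⟩⟩ | ⟨f, ⟨e⟩⟩
  · have a := fun q n f g => (Nat.card_congr e.toEquiv).trans (card_PSL2_of_card (q := q) (n := n) f g)
    rcases f with f | f | f | f
    exacts [.inl (key _ _ (a _ 60 f rfl) (by decide) (by norm_num) (by decide)),
      .inr (.inl (key _ _ (a _ 168 f rfl) (by decide) (by norm_num) (by decide))),
      .inr (.inl (key _ _ (a _ 504 f rfl) (by decide) (by norm_num) (by decide))),
      .inr (.inr (.inr (key _ _ (a _ 2448 f rfl) (by decide) (by norm_num) (by decide))))]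
  · exact .inr (.inr (.inl (key _ _ ((Nat.card_congr e.toEquiv).trans (Spec.L33.card
      (Nat.card_eq_fintype_card.symm.trans f))) (by decide) (by norm_num) (by decide))))

end CF.MS
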