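import Cfsg.Agent.MS.Red
import Cfsg.Agent.Classical.MaxL2c
import Cfsg.Agent.BN.SzNorm
import Cfsg.Agent.SolvStr.Homog
import Cfsg.Agent.Spec.L33

/-! Properties of the minimal simple groups. -/

set_option autoImplicit false
set_option linter.unusedSectionVars false

namespace CF.MS
open Subgroup Cfsg CF.BG CF.Classical MulAction CF.BN.Suz
open CF.Ab2 (NS ns_top p2)
open CF.SolvStr (WeakHomog)
open scoped MatrixGroups

/-- an element of odd prime power order with a unique maximal solvable overgroup -/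
def Uq (G : Type*) [Group G] : Prop := ∃ (x : G) (M : Subgroup G) (r : ℕ), r.Prime ∧ r ≠ 2 ∧
  PiElt {r} x ∧ x ≠ 1 ∧ M ≠ ⊤ ∧ ∀ S, Sol S → x ∈ S → S ≤ M

/-- three elements of prime order for three different primes with product one -/
def Tri (G : Type*) [Group G] : Prop := ∃ a b c : G, (orderOf a).Prime ∧ (orderOf b).Prime ∧
  (orderOf c).Prime ∧ orderOf a ≠ orderOf b ∧ orderOf b ≠ orderOf c ∧ orderOf a ≠ orderOf c ∧ a * b * c = 1

/-- a set of primes containing two for which `G` is homogeneous contains all prime divisors -/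
def Aut (G : Type*) [Group G] : Prop :=
  ∀ ρ : Set ℕ, 2 ∈ ρ → WeakHomog ρ G → ∀ x : G, (orderOf x).Prime → orderOf x ∈ ρ

section
variable {G H : Type*} [Group G] [Group H]

theorem Uq.congr (h : Uq H) (e : G ≃* H) : Uq G := by
  obtain ⟨x, M, r, a, b, c, d, m, k⟩ := h
  obtain ⟨x, rfl⟩ := e.surjective x
  refine ⟨x, M.comap e.toMonoidHom, r, a, b, by rwa [PiElt, e.orderOf_eq] at c, fun f => d (f ▸ map_one e), fun f => m ?_,
    fun S s hx => map_le_iff_le_comap.1 (k _ (s.map _) ⟨x, hx, rfl⟩)⟩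
  rw [← map_comap_eq_self_of_surjective (f := e.toMonoidHom) e.surjective M, f,
    map_top_of_surjective _ e.surjective]

theorem Tri.map (h : Tri G) (f : G →* H) (i : Function.Injective f) : Tri H := by
  obtain ⟨a, b, c, h⟩ := h
  refine ⟨f a, f b, f c, ?_⟩
  rw [← map_mul, ← map_mul, map_eq_one_iff _ i]
  simpa only [orderOf_injective f i] using h

theorem homog_comap {ρ : Set ℕ} (h : WeakHomog ρ H) (f : G →* H) (i : Function.Injective f) :
    WeakHomog ρ G := fun q p n Q k x hx o y hy => i <| by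
  simpa using h q p n (Q.map f) (k.map f) (f x) (le_normalizer_map f ⟨x, hx, rfl⟩)
    (by rwa [orderOf_injective f i]) (f y) ⟨y, hy, rfl⟩

theorem Aut.congr (h : Aut H) (e : G ≃* H) : Aut G := fun ρ a w x p =>
  e.orderOf_eq x ▸ h ρ a (homog_comap w e.symm.toMonoidHom e.symm.injective) (e x) (e.orderOf_eq x ▸ p)

theorem ne_one_of_prime {x : G} (p : (orderOf x).Prime) : x ≠ 1 := mt orderOf_eq_one_iff.2 p.ne_one

theorem pow_mem_of_dvd {K : Subgroup G} {g : G} {n : ℕ} (h : K.relIndex (zpowers g) ∣ n) : g ^ n ∈ K := by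
  obtain ⟨m, rfl⟩ := h
  exact pow_mul g _ m ▸ pow_mem (pow_index_mem (K.subgroupOf (zpowers g)) ⟨g, mem_zpowers g⟩) m

variable [Finite G] {ρ : Set ℕ} {Q : Subgroup G} {q n : ℕ} {g x : G}

theorem homog_cent (h : WeakHomog ρ G) (p : q.Prime) (nq : q ∉ ρ) (k : PiGrp {q} Q) (hg : g ∈ 𝐍 Q)
    (hn : PiNat ρ n) (c : g ^ n ∈ 𝐂 Q) : g ∈ 𝐂 Q := by
  obtain ⟨y, z, a, b, y1, z1, rfl⟩ := exists_piPart ρ g
  refine mul_mem (h q ⟨p⟩ nq Q k.isPGroup y (zpowers_le.2 hg a) y1) ?_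
  obtain ⟨m, e⟩ := b
  have : z ^ n ∈ 𝐂 Q := by
    rw [← e, ← zpow_natCast, ← zpow_mul, mul_comm, zpow_mul, zpow_natCast]; exact zpow_mem c _
  exact zpowers_le.2 this (mem_zpowers_pow_iff.2 (hn.coprime z1))

theorem homog_real (h : WeakHomog ρ G) (a : 2 ∈ ρ) (p : (orderOf x).Prime) (e : g * x * g⁻¹ = x⁻¹) :
    orderOf x ∈ ρ := by
  by_contra n
  have := homog_cent h p n (piGrp_of_card_prime p (Nat.card_zpowers x)) (g := g)
    (cj_eq_self.1 (by rw [cj_zpowers, e, zpowers_inv])) ((piNat_prime p2).2 a) (by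
      rw [cent_zpowers, mem_cent1, ← mul_inv_eq_iff_eq_mul]
      calc _ = g * (g * x * g⁻¹) * g⁻¹ := by simp [sq, mul_assoc]
        _ = x := by rw [e, ← conj_inv, e, inv_inv])
  rw [cent_zpowers, mem_cent1, ← mul_inv_eq_iff_eq_mul, e, inv_eq_iff_mul_eq_one, ← sq] at this
  exact n ((Nat.prime_dvd_prime_iff_eq p p2).1 (orderOf_dvd_of_pow_eq_one this) ▸ a)

end

theorem ex_pp {n : ℕ} (h0 : n ≠ 0) (h : ∀ a, ¬ n ∣ 3 * 2 ^ a) :
    ∃ r k, r.Prime ∧ r ≠ 2 ∧ 5 ≤ r ^ k ∧ r ^ k ∣ n := by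
  by_contra! c
  refine h (n.factorization 2) ((Nat.dvd_iff_prime_pow_dvd_dvd _ _).2 fun p k a d => ?_)
  by_cases e : p = 2
  · subst e
    exact (pow_dvd_pow 2 ((a.pow_dvd_iff_le_factorization h0).1 d)).mul_left _
  have l := not_le.1 fun l => c p k a e l d
  obtain ⟨m, o⟩ : Odd (p ^ k) := (a.odd_of_ne_two e).pow
  refine Dvd.dvd.mul_right ?_ _
  rw [o] at l ⊢
  obtain rfl | rfl : m = 0 ∨ m = 1 := by omega
  all_goals decide

section L2
variable {F : Type*} [Field F] [Finite F]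

theorem Q.four_le {q : ℕ} (h : Q q) : 4 ≤ q := by
  rcases h with ⟨p, a, rfl⟩ | ⟨p, a, -, rfl⟩ | h
  · exact Nat.pow_le_pow_right two_pos a.two_le
  · exact le_trans (by decide) (Nat.pow_le_pow_right three_pos a.two_le)
  · omega

theorem l2_sol {S : Subgroup PSL(2, F)} (s : Sol S) {x : PSL(2, F)} (hx : x ∈ S) (o : 5 ≤ orderOf x)
    (od : Odd (orderOf x)) : (∃ a : OnePoint F, S ≤ stabilizer _ (ratPt (AlgebraicClosure F) a)) ∨
      ∃ a b : OnePoint (AlgebraicClosure F), a ≠ b ∧ x ∈ torus _ a b ∧ S ≤ pairStab _ a b := by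
  have L := isL2_PSL F (AlgebraicClosure F)
  have s4 : ∀ f : S →* Equiv.Perm (Fin 4), ¬ Function.Injective f := fun f i => by
    have := orderOf_le_four_S4 (f ⟨x, hx⟩)
    rw [orderOf_injective f i, orderOf_mk] at this
    omega
  have a5 : ¬ Nonempty (S ≃* alternatingGroup (Fin 5)) := fun ⟨e⟩ =>
    not_isSolvable_A5 (isSolvable_of_equiv e.symm s)
  rcases L.dickson S with h | ⟨a, b, h, -, l⟩ | ⟨-, ⟨⟨e⟩⟩ | ⟨⟨e⟩⟩ | e⟩ | ⟨-, e⟩ | ⟨K, c, H, h, e⟩
  · exact .inl h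
  · refine .inr ⟨a, b, h, (mem_pairStab.1 (l hx)).resolve_right fun k => ?_, l⟩
    have := orderOf_le_of_pow_eq_one two_pos ((sq x).trans (mul_self_eq_one_of_swap h k.1 k.2))
    omega
  · exact (s4 ((alternatingGroup _).subtype.comp e.toMonoidHom) (Subtype.val_injective.comp e.injective)).elim
  · exact (s4 e.toMonoidHom e.injective).elim
  · exact (a5 e).elim
  · exact (a5 e).elim
  have k : Sol H := (sol_map_iff (subPGL_injective K c)).1 (e ▸ s.map _)
  have l : Nat.card K < 4 := not_le.1 fun l => not_isSolvable_psl l (k.mono h)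
  obtain ⟨y, -, f⟩ : _ ∈ H.map (subPGL K c) := e ▸ mem_map_of_mem _ hx
  have := orderOf_PGL2_le y
  rw [← orderOf_injective _ (subPGL_injective K c), f, orderOf_injective _ L.inj] at this
  omega

theorem l2_uq (h : Q (Nat.card F)) : Uq PSL(2, F) := by
  have L := isL2_PSL F (AlgebraicClosure F)
  have := L.finite
  have h4 := h.four_le
  by_cases c : (Nat.card F).Prime ∧ 5 ≤ Nat.card F
  · obtain ⟨x, u⟩ := L.exists_isUnip OnePoint.infty
    have m : x ∈ unip _ _ := mem_unip.2 (.inr u)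
    have o : orderOf x = Nat.card F := ((Nat.dvd_prime c.1).1 (L.card_unip_ratPt OnePoint.infty ▸
      orderOf_dvd_natCard _ m)).resolve_left (mt orderOf_eq_one_iff.1 u.ne_one)
    have n : Nat.card F ≠ 2 := by omega
    refine ⟨x, _, _, c.1, n, o ▸ piNat_self (o ▸ c.1), u.ne_one, (L.isCoatom_stabilizer OnePoint.infty).1, fun S s hx => ?_⟩
    rcases l2_sol s hx (o ▸ c.2) (o ▸ c.1.odd_of_ne_two n) with ⟨a, l⟩ | ⟨a, b, e, t, -⟩
    · rwa [eq_of_mem_unip u.ne_one m (l hx)] at l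
    · exact (e ((eq_of_mem_unip u.ne_one m t.1).trans (eq_of_mem_unip u.ne_one m t.2).symm)).elim
  obtain ⟨a, b, ab, na, -, e⟩ := L.exists_nonsplit_torus
  rw [index_range_pslToPGL] at e
  obtain ⟨r, k, pr, r2, l, d⟩ := ex_pp (n := ♯(torus PSL(2, F) a b)) (card_pos' _).ne' fun j d => by
    rcases h.imp_right fun h => h.resolve_right c with ⟨p, a, f⟩ | ⟨p, a, b, f⟩
    · have ev : Even (Nat.card F) := f ▸ (Nat.even_pow' a.ne_zero).2 even_two
      rw [(Nat.coprime_two_left.2 (Nat.Even.sub_odd (by omega) ev odd_one)).gcd_eq_one, mul_one] at e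
      have := Nat.le_of_dvd three_pos ((((Nat.coprime_two_right.2 ev.add_one)).pow_right j).dvd_mul_right.1 (e ▸ d))
      omega
    · have m8 : Nat.card F % 8 = 3 := f ▸ pow_odd_mod_eight rfl (a.odd_of_ne_two b)
      have m3 : 3 ∣ Nat.card F := f ▸ dvd_pow_self 3 a.ne_zero
      rw [Nat.gcd_eq_left (by omega)] at e
      obtain ⟨i, -, g⟩ := (Nat.dvd_prime_pow p2).1 (((Nat.prime_three.coprime_iff_not_dvd.2
        (by omega)).symm).dvd_mul_left.1 d)
      rw [g] at e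
      rcases i with _ | _ | i <;> omega
  obtain ⟨x, hx, o⟩ := exists_orderOf_eq_of_isCyclic (isCyclic_torus ab) d
  have x1 : x ≠ 1 := by rintro rfl; rw [orderOf_one] at o; omega
  refine ⟨x, _, r, pr, r2, (piNat_pow_self pr k).dvd o.dvd, x1, L.pairStab_ne_top h4 ab, fun S s m => ?_⟩
  rcases l2_sol s m (o ▸ l) (o ▸ (pr.odd_of_ne_two r2).pow) with ⟨y, l⟩ | ⟨y, z, e, t, l⟩
  · exact (na (L.mem_range_of_fixed x1 ⟨y, rfl⟩ (l m) hx.1)).elim
  · exact (pairStab_eq_of_mem ab e x1 hx t).1 ▸ l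

theorem l2_aut (h4 : 4 ≤ Nat.card F) : Aut PSL(2, F) := fun ρ t w => by
  have L := isL2_PSL F (AlgebraicClosure F)
  have := L.finite
  have k : ∀ x : PSL(2, F), (orderOf x).Prime → ∀ a b : OnePoint (AlgebraicClosure F), a ≠ b →
      x ∈ torus _ a b → orderOf x ∈ ρ := fun x p a b ab hx => by
    obtain ⟨g, g1, g2⟩ := (L.torus_cases ab (ne_bot_of_mem hx (ne_one_of_prime p))).1
    exact homog_real w t p (conj_eq_inv_of_swap ab g1 g2 hx)
  intro x p
  rcases isUnip_or_mem_torus (OnePoint (AlgebraicClosure F)) (g := x) (ne_one_of_prime p) with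
    ⟨a, u⟩ | ⟨a, b, ab, hx⟩
  swap; · exact k x p a b ab hx
  obtain ⟨a, rfl⟩ := L.mem_range_of_isUnip u
  obtain ⟨b, ab⟩ : ∃ b, b ≠ a := by
    by_cases e : a = OnePoint.infty
    exacts [⟨(0 : F), e ▸ OnePoint.coe_ne_infty _⟩, ⟨_, Ne.symm e⟩]
  have c := L.card_torus_ratPt ab.symm
  have := L.index_le_two
  obtain ⟨s, ps, d⟩ := Nat.exists_prime_and_dvd (n := ♯(torus PSL(2, F) (ratPt (AlgebraicClosure F) a)
    (ratPt _ b))) fun e => by rw [e] at c; omega
  obtain ⟨g, hg, o⟩ := exists_orderOf_eq_of_isCyclic (isCyclic_torus (ratPt_injective.ne ab.symm)) d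
  by_contra n
  have m : x ∈ unip _ _ := mem_unip.2 (.inr u)
  obtain ⟨r, hr⟩ := CharP.exists F
  have pr := CharP.char_is_prime F r
  have e := (Nat.prime_dvd_prime_iff_eq p pr).1 (orderOf_dvd_of_pow_eq_one (L.pow_eq_one_of_mem_unip r m))
  have := w _ ⟨p⟩ n (unip _ _) (fun y => ⟨1, Subtype.ext (by
    simpa [e] using L.pow_eq_one_of_mem_unip r y.2)⟩) g (normalizer_unip (ne_bot_of_mem m u.ne_one) ▸ hg.1)
    ((piNat_prime (o ▸ ps)).2 (k g (o ▸ ps) _ _ (ratPt_injective.ne ab.symm) hg))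
  exact ab (ratPt_injective (eq_of_mem_unip (ne_one_of_prime (o ▸ ps))
    (mem_unip_of_commute u (this x m).symm) hg.2))

theorem pair_tau {t : F} (h0 : t ≠ 0) (h1 : t ≠ 1) (s : IsSquare t) : ∃ x ∈ psl F, ∃ y ∈ psl F,
    orderOf x = 2 ∧ orderOf y = 3 ∧ x * y ≠ 1 ∧ tau (x * y) = t := by
  by_cases h : (2 : F) = 0
  swap
  · obtain ⟨x, y, a, b, c, d, e, f⟩ := exists_pair_tau h0 (.inl h)
    exact ⟨x, f.2 s, y, e, a, b, c, d⟩
  obtain ⟨s, rfl⟩ := s
  have s0 : s ≠ 0 := left_ne_zero_of_mul h0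
  have s1 : s + 1 ≠ 0 := fun e => h1 (by linear_combination (s - 1) * e)
  obtain ⟨b, hb⟩ : ∃ b, b * (s * (s + 1)) = 1 := ⟨_, inv_mul_cancel₀ (mul_ne_zero s0 s1)⟩
  have hd : s * b * (1 - s * b) - b * (s * s + s * s * b) = 1 := by
    linear_combination hb - (b * s ^ 2 + b ^ 2 * s ^ 2) * h
  have hx : orderOf (pgl 0 1 (-(s * s)) 0 (by simpa using s0)) = 2 := orderOf_eq_prime
    (sq_eq_one_iff_tau.2 (Or.inr (by rw [tau_pgl]; simp))) (by simp [pgl_eq_one_iff])
  have hy : orderOf (pgl (s * b) b (s * s + s * s * b) (1 - s * b) (by rw [hd]; exact one_ne_zero)) = 3 :=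
    orderOf_eq_prime (pow_three_eq_one_iff_tau.2 (Or.inr (by rw [tau_pgl, hd]; simp))) (by
      rw [Ne, pgl_eq_one_iff]
      rintro ⟨rfl, -⟩
      simp at hb)
  refine ⟨_, by rw [pgl_mem_psl]; simp, _, pgl_mem_psl.2 (by rw [hd]; exact IsSquare.one), hx, hy,
    fun e => ?_, ?_⟩
  · rw [eq_inv_of_mul_eq_one_left e, orderOf_inv, hy] at hx; exact absurd hx (by norm_num)
  · rw [pgl_mul, tau_pgl, div_eq_iff]
    · linear_combination -(s * s) ^ 2 * hd
    · exact fun e => h0 (by linear_combination e - s * s * hd)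

theorem ex_five {G : Type*} [Group G] [Finite G] (s : ¬ Group.IsSolvable G) :
    ∃ c : G, (orderOf c).Prime ∧ orderOf c ≠ 2 ∧ orderOf c ≠ 3 := by
  by_contra! k
  refine s (Char.isSolvable_of_card_primeFactors_le_two ((Finset.card_le_card (t := {2, 3})
    fun p hp => ?_).trans Finset.card_le_two))
  rw [Nat.mem_primeFactors] at hp
  have := Fact.mk hp.1
  obtain ⟨c, rfl⟩ := exists_prime_orderOf_dvd_card' p hp.2.1
  simpa [or_iff_not_imp_left] using k c hp.1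

theorem l2_tri (h4 : 4 ≤ Nat.card F) : Tri PSL(2, F) := by
  refine Tri.map ?_ (pslEquiv F).symm.toMonoidHom (pslEquiv F).symm.injective
  obtain ⟨⟨c, hc⟩, p, c2, c3⟩ := ex_five (not_isSolvable_psl h4)
  rw [orderOf_mk] at p c2 c3
  have c1 := ne_one_of_prime p
  have h0 : tau c ≠ 0 := fun e => c2 ((Nat.prime_dvd_prime_iff_eq p p2).1
    (orderOf_dvd_of_pow_eq_one (sq_eq_one_iff_tau.2 (.inr e))))
  obtain ⟨x, hx, y, hy, a, b, d, e⟩ := pair_tau h0 (fun e => c3 ((Nat.prime_dvd_prime_iff_eq p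
    Nat.prime_three).1 (orderOf_dvd_of_pow_eq_one (pow_three_eq_one_iff_tau.2 (.inr e)))))
    (isSquare_tau_of_mem_psl hc)
  obtain ⟨g, f⟩ := isConj_iff.1 (isConj_of_tau_eq c1 d h0 e.symm)
  refine ⟨⟨x, hx⟩, ⟨y, hy⟩, (⟨x, hx⟩ * ⟨y, hy⟩)⁻¹, ?_⟩
  rw [orderOf_inv, MulMemClass.mk_mul_mk, orderOf_mk, orderOf_mk, orderOf_mk, a, b,
    show orderOf (x * y) = orderOf c by rw [← f, orderOf_conj']]
  exact ⟨p2, Nat.prime_three, p, by decide, c3.symm, c2.symm, by simp⟩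

end L2

section Sz
variable {F : Type*} [Field F] [Finite F] {T : Tits F} {G : Type*} [Group G] (D : SzData T G)
include D

theorem sz_reg : ∃ x, D.Reg x ∧ (orderOf x).Prime := by
  have := D.finite
  obtain ⟨r, p, d⟩ := Nat.exists_prime_and_dvd (n := Nat.card F ^ 2 + 1) (by simp [Nat.card_pos.ne'])
  have := Fact.mk p
  obtain ⟨x, rfl⟩ := exists_prime_orderOf_dvd_card' (G := G) r (D.card_G ▸ d.mul_left _)
  exact ⟨x, D.reg_of_orderOf_dvd (ne_one_of_prime p) d, p⟩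

theorem sz_uq {r : ℕ} (hr : r ^ 2 = 2 * Nat.card F) (h8 : 8 ≤ Nat.card F) : Uq G := by
  have := D.finite
  obtain ⟨x, h, p⟩ := sz_reg D
  refine ⟨x, 𝐍 (𝐂₁ x), _, p, fun e => h.odd.not_two_dvd_nat e.symm.dvd, piNat_self p, h.ne_one,
    fun e => ?_, fun S s m => ?_⟩
  · exact D.not_isSolvable (by omega) (Ab2.sol_top.1 (e ▸ D.isSolvable_normalizer hr h8 h.ne_one h.odd))
  rcases D.solvable_cases s with ⟨g, l⟩ | ⟨g, l⟩ | ⟨y, hy, l⟩
  · exact (h.not_mem_conj_B g (l m)).elim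
  · have d := orderOf_dvd_natCard _ (l m)
    rw [(D.conj g).card_normalizer_H (exists_unit_ne_one (by omega))] at d
    exact (p.ne_one ((coprime_sq_add_one T.even_card h.orderOf_dvd).eq_one_of_dvd
      (d.trans (mul_dvd_mul_right (dvd_mul_right _ _) _)))).elim
  · rwa [hy.centralizer_eq (hy.mem_of_odd hr h8 (l m) h.odd) h.ne_one]

theorem sz_tri (hq : 2 < Nat.card F) : Tri G := by
  have := D.finite
  obtain ⟨x, h, p⟩ := sz_reg D
  obtain ⟨a, b, c, d, t, rfl⟩ : ∃ a b c d t, x = D.u a b * D.w * D.u c d * D.h t :=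
    ⟨_, _, D.exists_big h.not_mem_B⟩
  obtain ⟨r, pr, dr⟩ := Nat.exists_prime_and_dvd (n := ♯D.H) (by rw [D.card_H]; omega)
  obtain ⟨_, ⟨s, rfl⟩, o⟩ := exists_orderOf_eq_of_isCyclic D.isCyclic_H dr
  have s1 : s ≠ 1 := fun e => ne_one_of_prime (o ▸ pr) (e ▸ map_one _)
  obtain ⟨e, f, k⟩ := mul_mem (D.u_mem_U a b) (D.conj_mem_U (D.h_mem_B (s * t⁻¹)) (D.u_mem_U c d))
  have i : (D.h (s * t⁻¹) * D.w) ^ 2 = 1 := by
    rw [sq, mul_assoc, ← mul_assoc D.w, D.w_mul_h, mul_assoc, D.w_mul_w, mul_one, ← map_mul,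
      mul_inv_cancel, map_one]
  have oz : orderOf (D.u a b * (D.h (s * t⁻¹) * D.w) * (D.u a b)⁻¹) = 2 := by
    rw [orderOf_conj']
    exact orderOf_eq_prime i fun e => D.w_not_mem_B (eq_inv_of_mul_eq_one_right e ▸ inv_mem (D.h_mem_B _))
  have e1 : D.u a b * (D.h (s * t⁻¹) * D.w) * (D.u a b)⁻¹ * (D.u a b * D.w * D.u c d * D.h t) =
      D.u e f * D.h s := by
    rw [← k, map_mul, map_inv]
    calc _ = D.u a b * (D.h s * (D.h t)⁻¹ * (D.w * D.w) * D.u c d * D.h t) := by group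
      _ = _ := by rw [D.w_mul_w]; group
  obtain ⟨v, hv, s', -, e2⟩ := D.exists_conj_h_of_mem_B (g := D.u e f * D.h s) ⟨e, f, s, rfl⟩ fun m =>
    s1 (D.h_injective ((D.eq_one_of_mem_U_of_mem_H ((mul_mem_cancel_left (D.u_mem_U e f)).1 m)
      (D.h_mem_H s)).trans (map_one _).symm))
  obtain ⟨e', f', k'⟩ := mul_mem hv (D.conj_mem_U (D.h_mem_B s') (inv_mem hv))
  obtain rfl : s = s' := (D.u_mul_h_inj (e2.trans (by rw [← k']; group))).2.2
  have cp := coprime_sq_add_one T.even_card h.orderOf_dvd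
  refine ⟨_, _, (D.u e f * D.h s)⁻¹, oz ▸ p2, p, ?_, oz ▸ fun e => h.odd.not_two_dvd_nat e.dvd, ?_, ?_,
    by rw [e1, mul_inv_cancel]⟩ <;> rw [orderOf_inv, e2, orderOf_conj' v, o]
  · exact pr
  · exact fun e => p.ne_one (cp.eq_one_of_dvd (e ▸ (D.card_H ▸ dr).mul_left _))
  · exact oz ▸ fun e => T.odd_card_sub_one.not_two_dvd_nat (e ▸ D.card_H ▸ dr)

theorem sz_aut {r : ℕ} (hr : r ^ 2 = 2 * Nat.card F) (h8 : 8 ≤ Nat.card F) : Aut G := fun ρ t w x p => by
  have := D.finite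
  rcases D.trichotomy x with ⟨g, h⟩ | ⟨g, s, rfl⟩ | h
  · have := p.dvd_of_dvd_pow (n := 2) (m := 2) (orderOf_dvd_of_pow_eq_one ((D.conj g).pow_four_of_mem_U h))
    exact (Nat.prime_dvd_prime_iff_eq p p2).1 this ▸ t
  · exact homog_real w t p ((D.conj g).w_conj_h s)
  · obtain ⟨g, e⟩ := h.exists_inverting hr h8
    exact homog_real w t p (e x (self_mem_cent1 x))

end Sz

section L3

/-- matrices of determinant one over the field with three elements -/
def m3 (a b c d e f g h i : ZMod 3) (k : a * e * i - a * f * h - b * d * i + b * f * g + c * d * h -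
    c * e * g = 1 := by decide) : SL(3, ZMod 3) :=
  ⟨!![a, b, c; d, e, f; g, h, i], by rw [Matrix.det_fin_three]; exact k⟩

theorem l3_inj : Function.Injective (QuotientGroup.mk' (center SL(3, ZMod 3))) := by
  rw [← MonoidHom.ker_eq_bot_iff, QuotientGroup.ker_mk', eq_bot_iff]
  intro x hx
  obtain ⟨r, a, b⟩ := Matrix.SpecialLinearGroup.mem_center_iff.1 hx
  obtain rfl : r = 1 := (by decide : ∀ r : ZMod 3, r ^ 3 = 1 → r = 1) r a
  exact Subtype.ext (b.symm.trans (map_one _))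

theorem l3_tri : Tri PSL(3, ZMod 3) := by
  refine Tri.map ?_ _ l3_inj
  have a : orderOf (m3 1 0 0 0 2 0 2 0 2) = 2 := orderOf_eq_prime (by decide) (by decide)
  have b : orderOf (m3 0 1 0 0 0 1 1 0 0) = 3 := orderOf_eq_prime (by decide) (by decide)
  have := Fact.mk (by norm_num : Nat.Prime 13)
  have c : orderOf (m3 0 1 0 0 0 2 2 2 0) = 13 := orderOf_eq_prime (by decide +kernel) (by decide)
  refine ⟨_, _, (m3 0 1 0 0 0 2 2 2 0)⁻¹, a ▸ p2, b ▸ Nat.prime_three, ?_, by rw [a, b]; decide, ?_, ?_,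
    mul_inv_eq_one.2 (by decide)⟩ <;> simp [a, b, c, this.out]

theorem l3_card : Nat.card PSL(3, ZMod 3) = 5616 := Spec.L33.card (ZMod.card 3)

theorem l3_syl {V : Subgroup PSL(3, ZMod 3)} (c : ♯V = 27) : ¬ Abel V := fun h => by
  have sV : Syl 3 V ⊤ := ⟨le_top, piGrp_of_card (k := 3) Nat.prime_three c,
    (piNat_compl_single Nat.prime_three).2 (by
      have := V.card_mul_index
      rw [relIndex_top_right]; rw [c, l3_card] at this; omega)⟩
  let a := m3 1 1 0 0 1 0 0 0 1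
  let b := m3 1 0 0 0 1 1 0 0 1
  let z := m3 1 0 1 0 1 0 0 0 1
  have p : ∀ x : SL(3, ZMod 3), x ^ 3 = 1 → PiGrp {3} (zpowers x) := fun x e =>
    (piElt_of_pow_eq_one Nat.prime_three e).zpowers
  have k : PiGrp {3} (zpowers b ⊔ (zpowers a ⊔ zpowers z)) := (p b (by decide)).sup
    ((p a (by decide)).sup (p z (by decide)) (.inl (norm_of_cent (cent_zpowers z ▸ zpowers_le.2
      (mem_cent1.2 (by decide)))))) (.inl (zpowers_le.2 (mem_norm_of_cj_le (by
        rw [cj_sup, cj_zpowers, cj_zpowers, show b * a * b⁻¹ = a * z⁻¹ by decide,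
          show b * z * b⁻¹ = z by decide]
        exact sup_le (zpowers_le.2 (mul_mem_sup (mem_zpowers a) (inv_mem (mem_zpowers z)))) le_sup_right))))
  obtain ⟨g, -, l⟩ := sV.syl_le_cj le_top (k.map (QuotientGroup.mk' (center _)))
  have := ((abel_cj.2 h).mono l).mul_comm (mem_map_of_mem _ (mem_sup_left (mem_zpowers b)))
    (mem_map_of_mem _ (mem_sup_right (mem_sup_left (mem_zpowers a))))
  rw [← map_mul, ← map_mul] at this
  exact absurd (l3_inj this) (by decide)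

theorem l3_uq (n : NS (⊤ : Subgroup PSL(3, ZMod 3))) : Uq PSL(3, ZMod 3) := by
  have p : Nat.Prime 13 := by norm_num
  have := Fact.mk p
  obtain ⟨x, o⟩ := exists_prime_orderOf_dvd_card' (G := PSL(3, ZMod 3)) 13 (by rw [l3_card]; decide)
  have c := (Nat.card_zpowers x).trans o
  have k := piGrp_of_card_prime p c
  have x1 := ne_one_of_prime (o ▸ p)
  have sX : Syl 13 (zpowers x) ⊤ := ⟨le_top, k, (piNat_compl_single p).2 (by
    have := (zpowers x).card_mul_index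
    rw [relIndex_top_right]; rw [c, l3_card] at this; omega)⟩
  refine ⟨x, 𝐍 (zpowers x), 13, p, by decide, (piNat_self p).dvd o.dvd, x1, fun e => ?_, fun S s m => ?_⟩
  · exact x1 (zpowers_eq_bot.1 (n.eq_bot_of_sol ⟨le_top, e.ge⟩ k.sol))
  have l := zpowers_le.2 m
  have l2 : zpowers x ≤ 𝐅 S := by
    refine (le_inf l (cent_symm (F_le_of_forall fun q pq _ => ?_))).trans s.cent_F_le
    by_cases e : q = 13
    · exact (abel_zpowers x).cent ((sX.of_le l le_top).le_of_normal (O_normal _ _) (e ▸ O_pi _ _)) le_rfl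
    have m := Ab2.card_modEq p k (l.trans (O_normal {q} S).norm)
    by_contra c
    have lt := card_lt (inf_lt_left.2 c)
    have d := card_dvd_of_le (inf_le_left : 𝐎 {q} S ⊓ 𝐂 (zpowers x) ≤ _)
    obtain ⟨j, hj⟩ := (O_pi {q} S).card_pow
    have d2 : ♯(𝐎 {q} S) ∣ 16 * 27 := ((O_pi {q} S).to_compl_single (Ne.symm e)).coprime' (piNat_self p)
      |>.dvd_of_dvd_mul_right ((card_subgroup_dvd_card _).trans l3_card.dvd)
    have c27 : ♯(𝐎 {q} S) = 27 ∧ ♯(𝐎 {q} S ⊓ 𝐂 (zpowers x) : Subgroup _) = 1 := by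
      have pp : IsPrimePow (♯(𝐎 {q} S)) := hj ▸ (isPrimePow_pow_iff (by rintro rfl; have := card_pos' (𝐎 {q} S ⊓ 𝐂 (zpowers x)); rw [pow_zero] at hj; omega)).2
        pq.isPrimePow
      generalize ♯(𝐎 {q} S) = u, ♯(𝐎 {q} S ⊓ 𝐂 (zpowers x) : Subgroup _) = v at m lt d d2 pp ⊢
      exact (by decide : ∀ u ∈ Nat.divisors 16 ∪ Nat.divisors 27, ∀ v < u, v ∣ u → u ≡ v [MOD 13] →
        u = 27 ∧ v = 1) u (by simpa using (Nat.Coprime.isPrimePow_dvd_mul (by decide) pp).1 d2) v lt d m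
    have m2 := Ab2.card_modEq p k (l.trans ((O_normal {q} S).norm.trans (norm_center _)))
    rw [BG.eq_bot_mono (card_eq_one'.1 c27.2) (inf_le_inf_right _ inf_le_left), card_bot] at m2
    have d3 := c27.1 ▸ card_dvd_of_le (center_normal (𝐎 {q} S)).le
    have n1 := mt card_eq_one'.1 ((O_pi {q} S).center_ne_bot fun e => by simp [e] at c27)
    refine l3_syl c27.1 ((center_abel _).mono (eq_of_le_of_card_ge (center_normal _).le ?_).ge)
    rw [c27.1]
    generalize ♯(𝐙 (𝐎 {q} S)) = u at m2 d3 n1 ⊢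
    exact (by decide : ∀ u ∈ Nat.divisors 27, u ≡ 1 [MOD 13] → u ≠ 1 → 27 ≤ u) u
      (Nat.mem_divisors.2 ⟨d3, by decide⟩) m2 n1
  rw [← (sX.of_le l le_top).O_eq_of_le (le_O_of_le_F l2 k)]
  exact (O_normal _ _).norm

theorem l3_aut (n : NS (⊤ : Subgroup PSL(3, ZMod 3))) : Aut PSL(3, ZMod 3) := fun ρ t w x p => by
  have b : orderOf (QuotientGroup.mk' (center _) (m3 0 1 0 0 0 1 1 0 0)) = 3 :=
    (orderOf_injective _ l3_inj _).trans (orderOf_eq_prime (by decide) (by decide))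
  have t3 := homog_real w t (x := QuotientGroup.mk' _ (m3 0 1 0 0 0 1 1 0 0)) (by rw [b]; norm_num)
    (g := QuotientGroup.mk' _ (m3 0 2 0 2 0 0 0 0 2))
    (by rw [← map_inv, ← map_inv, ← map_mul, ← map_mul]; exact congrArg _ (by decide))
  rw [b] at t3
  have d : orderOf x ∣ 2 ^ 4 * 3 ^ 3 * 13 := (orderOf_dvd_natCard x).trans l3_card.dvd
  by_contra c
  have p13 : Nat.Prime 13 := by norm_num
  have o : orderOf x = 13 := by
    rcases p.dvd_mul.1 d with d | d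
    · rcases p.dvd_mul.1 d with d | d
      · exact (c ((Nat.prime_dvd_prime_iff_eq p p2).1 (p.dvd_of_dvd_pow d) ▸ t)).elim
      · exact (c ((Nat.prime_dvd_prime_iff_eq p Nat.prime_three).1 (p.dvd_of_dvd_pow d) ▸ t3 :)).elim
    · exact (Nat.prime_dvd_prime_iff_eq p p13).1 d
  have cX := (Nat.card_zpowers x).trans o
  have k := piGrp_of_card_prime p13 cX
  have sX : Syl 13 (zpowers x) ⊤ := ⟨le_top, k, (piNat_compl_single p13).2 (by
    have := (zpowers x).card_mul_index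
    rw [relIndex_top_right]; rw [cX, l3_card] at this; omega)⟩
  have := sX.burnside fun g hg => homog_cent w p13 (o ▸ c) k hg.2 (n := 2 ^ 2 * 3)
    (piNat_mul_iff.2 ⟨((piNat_prime p2).2 t).pow _, (piNat_prime Nat.prime_three).2 t3⟩)
    (pow_mem_of_dvd ((relIndex_cent_dvd_pred (cX.symm ▸ p13) (zpowers_le.2 hg.2)).trans (by rw [cX]; decide)))
  have := this.inf_der_le sX
  rw [n.perf, inf_top_eq, der_eq_bot.2 (abel_zpowers x), le_bot_iff] at this
  exact ne_one_of_prime p (zpowers_eq_bot.1 this)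

end L3

universe u
variable [Thm.{u}] {G : Type u} [Group G] [Finite G]

theorem props (h : IsMinimalSimple G) : Uq G ∧ Tri G ∧ Aut G := by
  rcases cases h with ⟨F, _, _, q, ⟨e⟩⟩ | ⟨⟨e⟩⟩ | ⟨F, _, _, m, hm, hF, ⟨e⟩⟩
  · exact ⟨(l2_uq q).congr e, (l2_tri q.four_le).map e.symm.toMonoidHom e.symm.injective,
      (l2_aut q.four_le).congr e⟩
  · have n := ns_of_min (min_congr h e)
    exact ⟨(l3_uq n).congr e, l3_tri.map e.symm.toMonoidHom e.symm.injective, (l3_aut n).congr e⟩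
  · have D := (lieD F m hF).ofEquiv e
    have c := Nat.card_eq_fintype_card.trans hF
    exact ⟨sz_uq D (sq_two_pow c) (eight_le_natCard hm c), sz_tri D (two_lt_card hm hF),
      sz_aut D (sq_two_pow c) (eight_le_natCard hm c)⟩

end CF.MS
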